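import Mathlib
import Cfsg.Prelude.Def_Involutions
import Cfsg.Prelude.Def_Local
import Cfsg.Agent.Lib.Invol.Closed
import Cfsg.Agent.Lib.Invol.StronglyEmbedded
import Cfsg.Agent.Lib.Grp.Frattini

/-!
# Tightly embedded subgroups whose involutions fix one point

`Hyp Q`: no conjugate of an involution of `Q` by an element outside `N(Q)` lies in `N(Q)`.  Then two
involutions of conjugates of `Q` at different points have a product of odd order, so all involutions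
of `Q` are conjugate, and one of them is central in a Sylow subgroup inside `N(Q)`.
-/

set_option autoImplicit false

namespace Cfsg.Agent.Fus.Tight

open Subgroup

universe u

variable {G : Type u} [Group G]

/-- The normalizer. -/
abbrev Nq (Q : Subgroup G) : Subgroup G := normalizer (Q : Set G)

/-- The hypothesis on `Q`. -/
structure Hyp (Q : Subgroup G) : Prop where
  even : Even (Nat.card Q)
  moves : ∀ t ∈ Q, orderOf t = 2 → ∀ g : G, g * t * g⁻¹ ∈ Nq Q → g ∈ Nq Q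
  ne_top : Nq Q ≠ ⊤

/-- The involutions of the conjugates of `Q`. -/
def invSet (Q : Subgroup G) : Set G := {x | orderOf x = 2 ∧ ∃ g : G, g⁻¹ * x * g ∈ Q}

/-- `N` isolates the involutions of `X`. -/
def Isolated (N X : Subgroup G) : Prop :=
  ¬ X ≤ N ∧ (∃ t ∈ X, t ∈ N ∧ orderOf t = 2) ∧
    ∀ t ∈ X, t ∈ N → orderOf t = 2 → ∀ g ∈ X, g * t * g⁻¹ ∈ N → g ∈ N

theorem orderOf_conj_inv (g x : G) : orderOf (g⁻¹ * x * g) = orderOf x := by
  simpa using Invol.orderOf_conj_eq g⁻¹ x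

theorem isolated_iff [Finite G] {N X : Subgroup G} :
    Isolated N X ↔ Cfsg.IsStronglyEmbedded (N.subgroupOf X) := by
  constructor
  · rintro ⟨h1, ⟨t, htX, htN, ht⟩, h3⟩
    have hne : N.subgroupOf X ≠ ⊤ := fun e => h1 (subgroupOf_eq_top.1 e)
    have hev : Even (Nat.card ↥(N.subgroupOf X)) :=
      Invol.even_card_of_mem (t := (⟨t, htX⟩ : X)) (by rw [Subgroup.orderOf_mk]; exact ht) htN
    refine (Invol.isStronglyEmbedded_iff hne hev).2 fun s hs hs2 g hg => ?_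
    have h := h3 s s.2 hs ((orderOf_coe s).trans hs2) (g : G)⁻¹ (inv_mem g.2)
      (by simpa [mem_subgroupOf] using hg)
    exact inv_mem_iff.1 h
  · intro h
    obtain ⟨hne, hev, -⟩ := id h
    have h' := (Invol.isStronglyEmbedded_iff hne hev).1 h
    obtain ⟨t, ht, ht2⟩ := Invol.exists_orderOf_two_mem hev
    refine ⟨fun e => hne (subgroupOf_eq_top.2 e), ⟨t, t.2, ht, (orderOf_coe t).trans ht2⟩,
      fun s hsX hsN hs g hgX hg => ?_⟩
    have h1 := h' ⟨s, hsX⟩ hsN (by rw [Subgroup.orderOf_mk]; exact hs) ⟨g⁻¹, inv_mem hgX⟩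
      (by simpa [mem_subgroupOf] using hg)
    exact inv_mem_iff.1 (mem_subgroupOf.1 h1)

theorem Isolated.mono {N X Y : Subgroup G} (h : Isolated N X) (hYX : Y ≤ X) (hY : ¬ Y ≤ N) {t : G}
    (ht : t ∈ Y) (htN : t ∈ N) (ht2 : orderOf t = 2) : Isolated N Y :=
  ⟨hY, ⟨t, ht, htN, ht2⟩, fun s hs hsN hs2 g hg => h.2.2 s (hYX hs) hsN hs2 g (hYX hg)⟩

theorem mem_invSet_of_mem {Q : Subgroup G} {x : G} (hx : x ∈ Q) (h2 : orderOf x = 2) : x ∈ invSet Q :=
  ⟨h2, 1, by simpa using hx⟩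

theorem conj_mem_invSet {Q : Subgroup G} {x : G} (hx : x ∈ invSet Q) (g : G) : g * x * g⁻¹ ∈ invSet Q := by
  obtain ⟨h2, k, hk⟩ := hx
  exact ⟨(Invol.orderOf_conj_eq g x).trans h2, g * k, by simpa [mul_assoc] using hk⟩

theorem mem_Nq_conj {Q : Subgroup G} {n x : G} (hn : n ∈ Nq Q) (hx : x ∈ Q) : n * x * n⁻¹ ∈ Q :=
  (mem_normalizer_iff.1 hn x).1 hx

/-- An element inverting `c` is moved by powers of `c` along `c²`. -/
theorem conj_pow_of_inverts {x c : G} (h : x * c * x⁻¹ = c⁻¹) (k : ℕ) :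
    c ^ k * x * (c ^ k)⁻¹ = c ^ (k + k) * x := by
  have h1 : x * c ^ k * x⁻¹ = (c ^ k)⁻¹ := by rw [← conj_pow, h, inv_pow]
  have h2 : x * (c ^ k)⁻¹ = c ^ k * x := by
    refine mul_inv_eq_iff_eq_mul.1 ?_
    rw [← conj_inv, h1, inv_inv]
  rw [mul_assoc, h2, ← mul_assoc, ← pow_add]

variable {Q : Subgroup G}

/-- An element of `Nq Q` among the distinguished involutions lies in `Q`. -/
theorem Hyp.mem_of_mem_invSet (h : Hyp Q) {x : G} (hx : x ∈ invSet Q) (hN : x ∈ Nq Q) : x ∈ Q := by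
  obtain ⟨h2, g, hg⟩ := hx
  have hgN : g ∈ Nq Q := h.moves _ hg ((orderOf_conj_inv g x).trans h2) g (by simpa [mul_assoc] using hN)
  simpa [mul_assoc] using mem_Nq_conj hgN hg

theorem Hyp.mem_of_commute (h : Hyp Q) {q c : G} (hq : q ∈ Q) (hq2 : orderOf q = 2) (hc : Commute c q) :
    c ∈ Nq Q :=
  h.moves q hq hq2 c (by rw [hc.eq, mul_inv_cancel_right]; exact le_normalizer hq)

theorem Hyp.notMem_moves (h : Hyp Q) {w g : G} (hw2 : orderOf w = 2) (hw : g⁻¹ * w * g ∈ Q)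
    (hwN : w ∈ Nq Q) : g ∈ Nq Q :=
  h.moves _ hw ((orderOf_conj_inv g w).trans hw2) g (by simpa [mul_assoc] using hwN)

/-- Involutions at different points have a product of odd order. -/
theorem Hyp.odd_product [Finite G] (h : Hyp Q) {q a g : G} (hq : q ∈ Q) (hq2 : orderOf q = 2)
    (ha2 : orderOf a = 2) (ha : g⁻¹ * a * g ∈ Q) (hg : g ∉ Nq Q) : Odd (orderOf (a * q)) := by
  refine Nat.not_even_iff_odd.1 fun he => hg ?_
  obtain ⟨r, hr⟩ := he
  obtain ⟨w, hw⟩ : ∃ w, w = (a * q) ^ r := ⟨_, rfl⟩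
  have hw2 : orderOf w = 2 := by
    have h0 := orderOf_pos (a * q)
    rw [hw, orderOf_pow, hr, Nat.gcd_eq_right ⟨2, by ring⟩, ← two_mul]
    exact Nat.mul_div_cancel _ (by omega)
  have h1 : Commute a w := by
    have h2 := Invol.mul_zpow_comm ha2 hq2 (r : ℤ)
    rw [zpow_natCast, zpow_neg, zpow_natCast, ← hw, Invol.inv_of_orderOf_two hw2] at h2
    exact h2
  have h3 : Commute q w := by
    have hc : Commute (a * q) w := hw ▸ Commute.self_pow (a * q) r
    have := h1.mul_left hc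
    rwa [← Invol.y_eq ha2] at this
  -- `w * a` is conjugate to `a` or to `q`
  have hconj : w * a ∈ invSet Q := by
    have haI : a ∈ invSet Q := ⟨ha2, g, ha⟩
    have hia : a * (a * q) * a⁻¹ = (a * q)⁻¹ := Invol.conj_mul_eq_inv ha2 hq2
    rcases Nat.even_or_odd r with ⟨k, hk⟩ | ⟨k, hk⟩
    · have : (a * q) ^ k * a * ((a * q) ^ k)⁻¹ = w * a := by
        rw [conj_pow_of_inverts hia, hw, hk]
      exact this ▸ conj_mem_invSet haI _
    · have hq' : a * q * a⁻¹ ∈ invSet Q := conj_mem_invSet (mem_invSet_of_mem hq hq2) a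
      have hi' : (a * q * a⁻¹) * (a * q) * (a * q * a⁻¹)⁻¹ = (a * q)⁻¹ := by
        have hqq : q * (a * q) * q⁻¹ = (a * q)⁻¹ := by
          rw [mul_inv_rev, Invol.inv_of_orderOf_two hq2, Invol.inv_of_orderOf_two ha2]
          simp [mul_assoc, Invol.mul_self_of_orderOf_two hq2]
        calc (a * q * a⁻¹) * (a * q) * (a * q * a⁻¹)⁻¹
            = a * (q * (a⁻¹ * (a * q) * a) * q⁻¹) * a⁻¹ := by group
          _ = a * (q * (a * q)⁻¹ * q⁻¹) * a⁻¹ := by
              rw [show a⁻¹ * (a * q) * a = (a * q)⁻¹ by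
                rw [Invol.inv_of_orderOf_two ha2]
                simpa [Invol.inv_of_orderOf_two ha2] using hia]
          _ = a * (a * q) * a⁻¹ := by rw [← conj_inv, hqq, inv_inv]
          _ = (a * q)⁻¹ := hia
      have : (a * q) ^ k * (a * q * a⁻¹) * ((a * q) ^ k)⁻¹ = w * a := by
        rw [conj_pow_of_inverts hi', hw, hk, two_mul, pow_succ, Invol.inv_of_orderOf_two ha2]
        group
      exact this ▸ conj_mem_invSet hq' _
  have hwa : g⁻¹ * (w * a) * g ∈ Q := by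
    refine h.mem_of_mem_invSet (by simpa using conj_mem_invSet hconj g⁻¹) ?_
    refine h.mem_of_commute ha ((orderOf_conj_inv g a).trans ha2) ?_
    have hwa : (w * a) * a = a * (w * a) := by rw [← mul_assoc a w a, h1.eq]
    show g⁻¹ * (w * a) * g * (g⁻¹ * a * g) = g⁻¹ * a * g * (g⁻¹ * (w * a) * g)
    calc g⁻¹ * (w * a) * g * (g⁻¹ * a * g) = g⁻¹ * ((w * a) * a) * g := by group
      _ = g⁻¹ * (a * (w * a)) * g := by rw [hwa]
      _ = _ := by group
  have hwQ : g⁻¹ * w * g ∈ Q := by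
    have := mul_mem hwa (inv_mem ha)
    simpa [mul_assoc] using this
  exact h.notMem_moves hw2 hwQ (h.mem_of_commute hq hq2 h3.symm)

/-- Involutions at different points are conjugate in the group they generate. -/
theorem Hyp.conj_in_pair [Finite G] (h : Hyp Q) {q a g : G} (hq : q ∈ Q) (hq2 : orderOf q = 2)
    (ha2 : orderOf a = 2) (ha : g⁻¹ * a * g ∈ Q) (hg : g ∉ Nq Q) :
    ∃ d ∈ Subgroup.closure ({a, q} : Set G), d * q * d⁻¹ = a := by
  obtain ⟨n, hn⟩ := h.odd_product hq hq2 ha2 ha hg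
  have hkm : (a * q) ^ (n + 1) ∈ Subgroup.closure ({a, q} : Set G) := by
    exact pow_mem (mul_mem Invol.left_mem_closure_pair Invol.right_mem_closure_pair) _
  refine ⟨(a * q) ^ (n + 1), hkm, ?_⟩
  have hqa : q * (a * q) * q⁻¹ = (a * q)⁻¹ := by
    rw [mul_inv_rev, Invol.inv_of_orderOf_two hq2, Invol.inv_of_orderOf_two ha2]
    have := Invol.mul_self_of_orderOf_two hq2
    simp [mul_assoc, this]
  have h3 : (a * q) ^ (n + 1 + (n + 1)) = a * q := by
    rw [show n + 1 + (n + 1) = (2 * n + 1) + 1 by omega, pow_succ, ← hn, pow_orderOf_eq_one, one_mul]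
  rw [conj_pow_of_inverts hqa, h3, mul_assoc, Invol.mul_self_of_orderOf_two hq2, mul_one]

theorem Hyp.exists_outside (h : Hyp Q) : ∃ g : G, g ∉ Nq Q := by
  by_contra hh
  push Not at hh
  exact h.ne_top (eq_top_iff.2 fun g _ => hh g)

/-- All distinguished involutions are conjugate. -/
theorem Hyp.isConj [Finite G] (h : Hyp Q) {q q' : G} (hq : q ∈ Q) (hq2 : orderOf q = 2) (hq' : q' ∈ invSet Q) :
    IsConj q q' := by
  obtain ⟨g, hg⟩ := h.exists_outside
  have key : ∀ {p : G}, p ∈ Q → orderOf p = 2 → IsConj p (g * q * g⁻¹) := fun {p} hp hp2 => by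
    obtain ⟨d, -, hd⟩ := h.conj_in_pair hp hp2 ((Invol.orderOf_conj_eq g q).trans hq2)
      (show g⁻¹ * (g * q * g⁻¹) * g ∈ Q by simpa [mul_assoc] using hq) hg
    exact _root_.isConj_iff.2 ⟨d, hd⟩
  obtain ⟨h2, k, hk⟩ := hq'
  exact ((key hq hq2).trans (key hk ((orderOf_conj_inv k q').trans h2)).symm).trans
    (_root_.isConj_iff.2 ⟨k, by group⟩)

theorem Hyp.exists_invol (h : Hyp Q) [Finite G] : ∃ q ∈ Q, orderOf q = 2 :=
  Invol.exists_orderOf_two_mem h.even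

/-- A Sylow subgroup of `G` inside `N(Q)` with a central involution in `Q`. -/
theorem Hyp.exists_central [Finite G] (h : Hyp Q) :
    ∃ (P : Sylow 2 G) (z : G), (P : Subgroup G) ≤ Nq Q ∧ z ∈ Q ∧ orderOf z = 2 ∧ z ∈ P ∧
      ∀ x ∈ P, x * z = z * x := by
  haveI : Fact (Nat.Prime 2) := ⟨Nat.prime_two⟩
  obtain ⟨q, hq, hq2⟩ := h.exists_invol
  obtain ⟨T, hT⟩ := (Invol.isPGroup_zpowers (p := 2) (n := 1) (x := (⟨q, le_normalizer hq⟩ : ↥(Nq Q)))
    (by rw [Subgroup.orderOf_mk, hq2, pow_one])).exists_le_sylow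
  have hTQn : ((Q.subgroupOf (Nq Q)).subgroupOf (T : Subgroup ↥(Nq Q))).Normal := inferInstance
  have hnb : (Q.subgroupOf (Nq Q)).subgroupOf (T : Subgroup ↥(Nq Q)) ≠ ⊥ := by
    intro e
    have h1 : (⟨⟨q, le_normalizer hq⟩, hT (mem_zpowers _)⟩ : ↥(T : Subgroup ↥(Nq Q))) ∈
        (Q.subgroupOf (Nq Q)).subgroupOf (T : Subgroup ↥(Nq Q)) := hq
    rw [e, mem_bot] at h1
    exact Invol.ne_one_of_orderOf_two hq2 (congrArg (fun x : ↥(T : Subgroup ↥(Nq Q)) => ((x : ↥(Nq Q)) : G)) h1)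
  haveI := T.isPGroup'.isNilpotent
  have hnt := Grp.inf_center_ne_bot (G := ↥(T : Subgroup ↥(Nq Q))) _ hnb
  haveI : Nontrivial ↥((Q.subgroupOf (Nq Q)).subgroupOf (T : Subgroup ↥(Nq Q)) ⊓ Subgroup.center _) :=
    (Subgroup.nontrivial_iff_ne_bot _).2 hnt
  obtain ⟨n, hn0, hn⟩ := (T.isPGroup'.to_subgroup ((Q.subgroupOf (Nq Q)).subgroupOf (T : Subgroup ↥(Nq Q)) ⊓
    Subgroup.center _)).nontrivial_iff_card.1 inferInstance
  obtain ⟨w, hw⟩ := exists_prime_orderOf_dvd_card'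
    (G := ↥((Q.subgroupOf (Nq Q)).subgroupOf (T : Subgroup ↥(Nq Q)) ⊓ Subgroup.center _)) 2
    (hn ▸ dvd_pow_self 2 hn0.ne')
  obtain ⟨hwQ, hwc⟩ := mem_inf.1 w.2
  set z : G := (((w : ↥(T : Subgroup ↥(Nq Q))) : ↥(Nq Q)) : G) with hz
  have hz2 : orderOf z = 2 := by rw [hz, orderOf_coe, orderOf_coe, orderOf_coe, hw]
  have hzQ : z ∈ Q := hwQ
  have hzc : ∀ x ∈ (T : Subgroup ↥(Nq Q)).map (Nq Q).subtype, x * z = z * x := by
    rintro _ ⟨x, hx, rfl⟩
    exact congrArg (fun y : ↥(T : Subgroup ↥(Nq Q)) => ((y : ↥(Nq Q)) : G)) (mem_center_iff.1 hwc ⟨x, hx⟩)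
  obtain ⟨P, hP⟩ := (T.isPGroup'.map (Nq Q).subtype).exists_le_sylow
  have hPT : (P : Subgroup G) = (T : Subgroup ↥(Nq Q)).map (Nq Q).subtype := by
    by_contra hne
    set R := ((T : Subgroup ↥(Nq Q)).map (Nq Q).subtype).subgroupOf (P : Subgroup G) with hR
    haveI := P.isPGroup'.isNilpotent
    have hRne : R ≠ ⊤ := fun e => hne (le_antisymm (subgroupOf_eq_top.1 e) hP)
    obtain ⟨n, hn, hnR⟩ := SetLike.exists_of_lt
      (Group.normalizerCondition_of_isNilpotent R (lt_top_iff_ne_top.mpr hRne))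
    have hzT : z ∈ (T : Subgroup ↥(Nq Q)).map (Nq Q).subtype :=
      ⟨_, (w : ↥(T : Subgroup ↥(Nq Q))).2, rfl⟩
    have hnz : (n : G) * z * (n : G)⁻¹ ∈ (T : Subgroup ↥(Nq Q)).map (Nq Q).subtype :=
      (mem_normalizer_iff.1 hn ⟨z, hP hzT⟩).1 hzT
    obtain ⟨y, -, hy⟩ := hnz
    have hnN : (n : G) ∈ Nq Q := h.moves z hzQ hz2 n (hy ▸ y.2)
    have hPN : IsPGroup 2 ↥((P : Subgroup G).subgroupOf (Nq Q)) := P.isPGroup'.comap_subtype
    have heq := T.is_maximal' hPN fun x hx => hP ⟨x, hx, rfl⟩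
    exact hnR ⟨⟨n, hnN⟩, heq ▸ n.2, rfl⟩
  refine ⟨P, z, ?_, hzQ, hz2, ?_, fun x hx => hzc x (hPT ▸ hx)⟩
  · rw [hPT]
    exact map_subtype_le _
  · exact hP ⟨_, (w : ↥(T : Subgroup ↥(Nq Q))).2, rfl⟩

end Cfsg.Agent.Fus.Tight
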