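import Mathlib
import Cfsg.Prelude.Def_EvenType
import Cfsg.Agent.Lib.Fus.TightCriterion.Basic
import Cfsg.Agent.Lib.Grp.Cores
import Cfsg.Agent.Lib.Invol.SPEmbedded
import Cfsg.Agent.Lib.Invol.BenderCover.Main
import Cfsg.Agent.Lib.Block.PNilHall.Embedded
import Cfsg.Agent.Lib.Local.CoreConsumers.SimpleBorel
import Cfsg.Agent.S2798

/-!
# A central involution fixing every point lies outside `⟨Inv(Q)^G⟩`

If the image of `M = ⟨Inv(Q)^G⟩` modulo the central involution `u` has `N(Q)` strongly embedded, Bender's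
theorem makes `M / O(M)` a double cover of a rank one group when `u ∈ M`, which `BenderCover` excludes.
-/

set_option autoImplicit false

namespace Cfsg.Agent.Fus.Tight

open Subgroup

universe u

/-- In a group generated by involutions every element is in the closure of the 2-elements. -/
theorem pElementClosure_eq_top {X : Type u} [Group X] {S : Set X} (hS : Subgroup.closure S = ⊤)
    (h2 : ∀ x ∈ S, x * x = 1) : Cfsg.pElementClosure 2 (⊤ : Subgroup X) = ⊤ := by
  refine top_le_iff.1 (hS.ge.trans ((Subgroup.closure_le _).2 ?_))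
  intro x hx
  obtain ⟨m, hm, hxm⟩ := (Nat.dvd_prime_pow Nat.prime_two).1
    (show orderOf x ∣ 2 ^ 1 from orderOf_dvd_of_pow_eq_one (by rw [pow_one, pow_two, h2 x hx]))
  exact Subgroup.subset_closure ⟨mem_top x, m, hxm⟩

/-- The kernel of `X → (X/⟨u⟩) / O` is `O(X) × ⟨u⟩`. -/
theorem mem_core_or {X : Type u} [Group X] [Finite X] {Y : Type u} [Group Y] [Finite Y] (ρ : X →* Y) {u : X}
    (hker : ∀ x, ρ x = 1 → x = 1 ∨ x = u) (hu2 : orderOf u = 2) (huc : ∀ x, u * x = x * u) (hu : ρ u = 1)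
    (hsurj : Function.Surjective ρ) {x : X} (hx : ρ x ∈ Cfsg.pPrimeCore 2 Y) :
    x ∈ Cfsg.pPrimeCore 2 X ∨ x * u ∈ Cfsg.pPrimeCore 2 X := by
  haveI : Fact (Nat.Prime 2) := ⟨Nat.prime_two⟩
  haveI : (Cfsg.pPrimeCore 2 Y).Normal := Grp.pPrimeCore_isNormal
  set K := (Cfsg.pPrimeCore 2 Y).comap ρ with hK
  have hu2' : u * u = 1 := Invol.mul_self_of_orderOf_two hu2
  have huK : u ∈ K := by rw [hK, mem_comap, hu]; exact one_mem _
  set U : Subgroup ↥K := (Subgroup.zpowers u).subgroupOf K with hU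
  haveI : U.Normal := by
    refine ⟨fun a ha g => ?_⟩
    rw [hU, mem_subgroupOf] at ha ⊢
    obtain ⟨k, hk⟩ := mem_zpowers_iff.1 ha
    refine mem_zpowers_iff.2 ⟨k, ?_⟩
    rw [Subgroup.coe_mul, Subgroup.coe_mul, Subgroup.coe_inv, ← hk,
      ← ((show Commute u (g : X) from huc _).zpow_left k).eq, mul_inv_cancel_right]
  have hUcard : Nat.card ↥U = 2 := by
    rw [hU, Nat.card_congr (Subgroup.subgroupOfEquivOfLe (Subgroup.zpowers_le.2 huK)).toEquiv, Nat.card_zpowers, hu2]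
  have hkerU : (ρ.subgroupMap K).ker = U := by
    ext a
    rw [MonoidHom.mem_ker, hU, mem_subgroupOf, ← Subtype.coe_inj, MonoidHom.subgroupMap_apply_coe]
    constructor
    · intro h
      rcases hker _ h with h' | h' <;> rw [h']
      · exact one_mem _
      · exact mem_zpowers _
    · intro h
      obtain ⟨k, hk⟩ := mem_zpowers_iff.1 h
      rw [← hk, map_zpow, hu, one_zpow]; rfl
  have hidx : (Nat.card ↥U).Coprime U.index := by
    rw [hUcard, ← hkerU, Subgroup.index_ker, MonoidHom.range_eq_top.2 (MonoidHom.subgroupMap_surjective ρ K),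
      Subgroup.card_top]
    have h1 : (Nat.card ↥(Cfsg.pPrimeCore 2 Y)).Coprime 2 := Grp.pPrimeCore_coprime
    rw [hK, Subgroup.map_comap_eq_self_of_surjective hsurj]
    exact h1.symm
  obtain ⟨H, hH⟩ := Subgroup.exists_right_complement'_of_coprime hidx
  have hHodd : ¬ 2 ∣ Nat.card ↥H := by
    have h1 := hH.card_mul
    have h2 := U.card_mul_index
    rw [hUcard] at h1 h2 hidx
    rw [show Nat.card ↥H = U.index by omega]
    exact fun h => by simpa using Nat.eq_one_of_dvd_coprimes hidx dvd_rfl h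
  -- `H` is normal in `X`
  have hmem : ∀ a : ↥K, a ∈ H ↔ Odd (orderOf (a : X)) := by
    intro a
    constructor
    · intro ha
      rw [orderOf_coe, ← Subgroup.orderOf_mk a ha]
      exact Odd.of_dvd_nat (Nat.not_even_iff_odd.1 fun he => hHodd (even_iff_two_dvd.1 he)) (orderOf_dvd_natCard _)
    · intro ha
      obtain ⟨⟨p, h⟩, hph, -⟩ := Subgroup.IsComplement.existsUnique hH a
      simp only at hph
      rcases hker (p : ↥K) (by
        have := (SetLike.ext_iff.1 hkerU (p : ↥K)).2 p.2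
        rw [MonoidHom.mem_ker, ← Subtype.coe_inj, MonoidHom.subgroupMap_apply_coe] at this
        exact this) with h' | h'
      · have : (p : ↥K) = 1 := Subtype.ext h'
        rw [this, one_mul] at hph
        exact hph ▸ h.2
      · exfalso
        have hh : Odd (orderOf ((h : ↥K) : X)) := by
          rw [orderOf_coe, show orderOf (h : ↥K) = orderOf (⟨(h : ↥K), h.2⟩ : ↥H) from (Subgroup.orderOf_mk _ _).symm]
          exact Odd.of_dvd_nat (Nat.not_even_iff_odd.1 fun he => hHodd (even_iff_two_dvd.1 he)) (orderOf_dvd_natCard _)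
        have he : (a : X) = u * ((h : ↥K) : X) := by
          rw [← congrArg (fun y : ↥K => (y : X)) hph, Subgroup.coe_mul, h']
        have hc : Commute u ((h : ↥K) : X) := huc _
        have h3 : orderOf (a : X) = 2 * orderOf ((h : ↥K) : X) := by
          rw [he, hc.orderOf_mul_eq_mul_orderOf_of_coprime (by rw [hu2]; exact (Nat.coprime_two_left).2 hh), hu2]
        rw [h3] at ha
        exact (Nat.not_even_iff_odd.2 ha) (even_two_mul _)
  have hle : H.map K.subtype ≤ Cfsg.pPrimeCore 2 X := by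
    refine Grp.le_pPrimeCore ⟨fun n hn g => ?_⟩ ?_
    · obtain ⟨a, ha, rfl⟩ := hn
      have hgK : g * (a : X) * g⁻¹ ∈ K := (inferInstance : K.Normal).conj_mem _ a.2 g
      refine ⟨⟨_, hgK⟩, (hmem _).2 ?_, rfl⟩
      rw [Invol.orderOf_conj_eq]
      exact (hmem a).1 ha
    · rw [Subgroup.card_map_of_injective K.subtype_injective]
      exact ((Nat.prime_two.coprime_iff_not_dvd).2 hHodd).symm
  obtain ⟨⟨p, h⟩, hph, -⟩ := Subgroup.IsComplement.existsUnique hH (⟨x, hx⟩ : ↥K)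
  simp only at hph
  have hxe : x = ((p : ↥K) : X) * ((h : ↥K) : X) := by
    have := congrArg (fun y : ↥K => (y : X)) hph
    simpa using this.symm
  have hhX : ((h : ↥K) : X) ∈ Cfsg.pPrimeCore 2 X := hle ⟨_, h.2, rfl⟩
  rcases hker (p : ↥K) (by
    have := (SetLike.ext_iff.1 hkerU (p : ↥K)).2 p.2
    rw [MonoidHom.mem_ker, ← Subtype.coe_inj, MonoidHom.subgroupMap_apply_coe] at this
    exact this) with h' | h'
  · exact Or.inl (by rwa [hxe, h', one_mul])
  · exact Or.inr (by rwa [hxe, h', huc, mul_assoc, hu2', mul_one])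

variable {G : Type u} [Group G] [Finite G]

/-- The central involution is not generated. -/
theorem Hyp.central_notMem {Q : Subgroup G} (h : Hyp Q) {u : G} (hu2 : orderOf u = 2) (huc : ∀ g, u * g = g * u)
    (huQ : u ∉ Q) {H : Type u} [Group H] [Finite H] (π : G →* H) (hker : ∀ g, π g = 1 → g = 1 ∨ g = u)
    (hπu : π u = 1) (hiso : Isolated ((Nq Q).map π) ((Subgroup.closure (invSet Q)).map π)) :
    u ∉ Subgroup.closure (invSet Q) := by
  classical
  haveI : Fact (Nat.Prime 2) := ⟨Nat.prime_two⟩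
  intro huM
  set M := Subgroup.closure (invSet Q) with hM
  set L := M.map π with hL
  set ρ : ↥M →* ↥L := π.subgroupMap M with hρ
  have hρs : Function.Surjective ρ := MonoidHom.subgroupMap_surjective π M
  haveI : (Cfsg.pPrimeCore 2 ↥L).Normal := Grp.pPrimeCore_isNormal
  haveI : (Cfsg.pPrimeCore 2 ↥M).Normal := Grp.pPrimeCore_isNormal
  set O := Cfsg.pPrimeCore 2 ↥M with hO
  set OL := Cfsg.pPrimeCore 2 ↥L with hOL
  have hOle : ∀ x : ↥M, x ∈ O → ρ x ∈ OL := fun x hx => by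
    refine Grp.le_pPrimeCore (Subgroup.Normal.map inferInstance ρ hρs) ?_ ⟨x, hx, rfl⟩
    exact Nat.Coprime.coprime_dvd_left (Subgroup.card_map_dvd _ _) Grp.pPrimeCore_coprime
  set φ : ↥M ⧸ O →* ↥L ⧸ OL := QuotientGroup.map O OL ρ (fun x hx => hOle x hx) with hφ
  have hφs : Function.Surjective φ := by
    intro y
    obtain ⟨y, rfl⟩ := QuotientGroup.mk'_surjective OL y
    obtain ⟨x, rfl⟩ := hρs y
    exact ⟨QuotientGroup.mk' O x, rfl⟩
  set u' : ↥M := ⟨u, huM⟩ with hu'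
  have hu'2 : orderOf u' = 2 := by rw [hu', Subgroup.orderOf_mk, hu2]
  have hno2 : ∀ x : ↥M, orderOf x = 2 → x ∉ O := fun x h2 hx => Grp.pPrimeCore_not_dvd (p := 2) (G := ↥M) (by
    have := orderOf_dvd_natCard (⟨x, hx⟩ : ↥O)
    rwa [Subgroup.orderOf_mk, h2] at this)
  have huO : u' ∉ O := hno2 _ hu'2
  set ub : ↥M ⧸ O := QuotientGroup.mk' O u' with hub
  have hub1 : ub ≠ 1 := fun e => huO ((QuotientGroup.eq_one_iff _).1 e)
  have hub2 : ub * ub = 1 := by
    rw [hub, ← map_mul, Invol.mul_self_of_orderOf_two hu'2, map_one]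
  have hubc : ∀ g : ↥M ⧸ O, ub * g = g * ub := by
    intro g
    obtain ⟨g, rfl⟩ := QuotientGroup.mk'_surjective O g
    rw [hub, ← map_mul, ← map_mul]
    congr 1
    exact Subtype.ext (huc g)
  have hρker : ∀ x, ρ x = 1 → x = 1 ∨ x = u' := fun x hx =>
    (hker x (congrArg Subtype.val hx)).imp (fun e => Subtype.ext e) fun e => Subtype.ext e
  have hρu : ρ u' = 1 := Subtype.ext hπu
  have hφu : φ ub = 1 := by
    show QuotientGroup.mk' OL (ρ u') = 1
    rw [hρu, map_one]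
  have hφker : ∀ g, φ g = 1 → g = 1 ∨ g = ub := by
    intro g hg
    obtain ⟨x, rfl⟩ := QuotientGroup.mk'_surjective O g
    rcases mem_core_or ρ hρker hu'2 (fun y => Subtype.ext (huc y)) hρu hρs ((QuotientGroup.eq_one_iff _).1 hg)
      with h1 | h1
    · exact Or.inl ((QuotientGroup.eq_one_iff _).2 h1)
    · refine Or.inr ?_
      have h2 : QuotientGroup.mk' O x * ub = 1 := by rw [hub, ← map_mul]; exact (QuotientGroup.eq_one_iff _).2 h1
      rw [eq_inv_of_mul_eq_one_left h2, inv_eq_of_mul_eq_one_left hub2]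
  -- the class
  set S : Set ↥M := {x | (x : G) ∈ invSet Q} with hS
  set Z : Set (↥M ⧸ O) := QuotientGroup.mk' O '' S with hZ
  have hSgen : Subgroup.closure S = ⊤ := by
    exact Subgroup.closure_closure_coe_preimage
  have hS2 : ∀ x ∈ S, orderOf x = 2 := fun x hx => (orderOf_coe x) ▸ (hx.1 : orderOf (x : G) = 2)
  have hSu : ∀ x ∈ S, QuotientGroup.mk' O x ≠ ub := by
    intro x hx e
    have h1 : x⁻¹ * u' ∈ O := (QuotientGroup.eq).1 e
    have hne : x⁻¹ * u' ≠ 1 := fun e => by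
      rw [inv_mul_eq_one] at e
      exact huQ (h.mem_of_mem_invSet ((show (x : G) = u from congrArg Subtype.val e) ▸ (hx : (x : G) ∈ invSet Q)) (by
        obtain ⟨q, hq, hq2⟩ := h.exists_invol
        exact h.mem_of_commute hq hq2 (huc q)))
    have h2 : (x⁻¹ * u') ^ 2 = 1 := by
      have hc : Commute x⁻¹ u' := Subtype.ext (huc (x : G)⁻¹).symm
      rw [hc.mul_pow, inv_pow, pow_two x, Invol.mul_self_of_orderOf_two (hS2 x hx), inv_one, pow_two,
        Invol.mul_self_of_orderOf_two hu'2, one_mul]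
    exact hno2 _ (orderOf_eq_prime h2 hne) h1
  have hS1 : ∀ x ∈ S, QuotientGroup.mk' O x ≠ 1 := fun x hx e =>
    hno2 x (hS2 x hx) ((QuotientGroup.eq_one_iff _).1 e)
  have hZ2 : ∀ z ∈ Z, z * z = 1 ∧ z ≠ 1 := by
    rintro _ ⟨x, hx, rfl⟩
    exact ⟨by rw [← map_mul, Invol.mul_self_of_orderOf_two (hS2 x hx), map_one], hS1 x hx⟩
  have hZc : ∀ z ∈ Z, ∀ g, g * z * g⁻¹ ∈ Z := by
    rintro _ ⟨x, hx, rfl⟩ g
    obtain ⟨g, rfl⟩ := QuotientGroup.mk'_surjective O g
    exact ⟨g * x * g⁻¹, conj_mem_invSet hx _, by simp⟩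
  have hgen : Subgroup.closure Z = ⊤ := by
    rw [hZ, ← MonoidHom.map_closure, hSgen, ← MonoidHom.range_eq_map]
    exact MonoidHom.range_eq_top.2 (QuotientGroup.mk'_surjective O)
  have huZ : ub ∉ Z := by
    rintro ⟨x, hx, e⟩
    exact hSu x hx e
  have hmul : ∀ z ∈ Z, ∀ t ∈ Z, z * t = t * z → z ≠ t → z * t ∈ Z := by
    rintro _ ⟨x, hx, rfl⟩ _ ⟨y, hy, rfl⟩ hc hne
    obtain ⟨hx2, g, hg⟩ := id hx
    obtain ⟨hy2, k, hk⟩ := id hy
    have hsq : QuotientGroup.mk' O x * QuotientGroup.mk' O y *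
        (QuotientGroup.mk' O x * QuotientGroup.mk' O y) = 1 := by
      rw [← map_mul, ← map_mul, map_mul, map_mul, mul_assoc, ← mul_assoc (QuotientGroup.mk' O y), ← hc,
        mul_assoc, ← map_mul _ y y, Invol.mul_self_of_orderOf_two (hS2 y hy), map_one, mul_one, ← map_mul,
        Invol.mul_self_of_orderOf_two (hS2 x hx), map_one]
    have hne1 : QuotientGroup.mk' O (x * y) ≠ 1 := fun e => by
      rw [map_mul] at e
      exact hne ((mul_eq_one_iff_eq_inv.1 e).trans (inv_eq_of_mul_eq_one_left (hZ2 _ ⟨y, hy, rfl⟩).1))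
    -- same point
    have hsame : g⁻¹ * k ∈ Nq Q := by
      by_contra hgk
      have hodd : Odd (orderOf ((g⁻¹ * (y : G) * g) * (g⁻¹ * (x : G) * g))) := by
        refine h.odd_product hg ((orderOf_conj_inv g _).trans hx2) ((orderOf_conj_inv g _).trans hy2)
          (g := g⁻¹ * k) ?_ hgk
        simpa [mul_assoc] using hk
      rw [show g⁻¹ * (y : G) * g * (g⁻¹ * (x : G) * g) = g⁻¹ * ((y : G) * x) * g by group, orderOf_conj_inv,
        ← Subgroup.coe_mul, orderOf_coe] at hodd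
      have h2 : orderOf (QuotientGroup.mk' O (y * x)) ∣ 2 := by
        refine orderOf_dvd_of_pow_eq_one ?_
        rw [pow_two, map_mul, ← hc]
        exact hsq
      rcases (Nat.dvd_prime Nat.prime_two).1 h2 with e | e
      · rw [orderOf_eq_one_iff, map_mul, ← hc, ← map_mul] at e
        exact hne1 e
      · exact Nat.not_even_iff_odd.2 (hodd.of_dvd_nat (orderOf_map_dvd _ _)) (e ▸ even_two)
    have hyg : g⁻¹ * (y : G) * g ∈ Q := by
      have := mem_Nq_conj hsame hk
      simpa [mul_assoc] using this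
    have hOodd : Odd (Nat.card ↥O) :=
      Nat.not_even_iff_odd.1 fun he => Grp.pPrimeCore_not_dvd (p := 2) (G := ↥M) (even_iff_two_dvd.1 he)
    refine ⟨(x * y) ^ Nat.card ↥O, ?_, ?_⟩
    · have hpow2 : ((x * y) ^ Nat.card ↥O) ^ 2 = 1 := by
        rw [← pow_mul, mul_comm, pow_mul]
        have h1 : (x * y) ^ 2 ∈ O := by
          rw [← QuotientGroup.eq_one_iff]
          show QuotientGroup.mk' O ((x * y) ^ 2) = 1
          rw [map_pow, pow_two, map_mul]
          exact hsq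
        have := congrArg (fun y : ↥O => (y : ↥M)) (pow_card_eq_one' (x := (⟨_, h1⟩ : ↥O)))
        rw [SubmonoidClass.coe_pow, OneMemClass.coe_one] at this
        exact this
      have hne' : (x * y) ^ Nat.card ↥O ≠ 1 := fun e => by
        obtain ⟨m, hm⟩ := hOodd
        have := congrArg (QuotientGroup.mk' O) e
        rw [map_pow, map_one, hm, pow_succ, pow_mul, pow_two, map_mul, hsq, one_pow, one_mul, ← map_mul] at this
        exact hne1 this
      refine ⟨(orderOf_coe _).trans (orderOf_eq_prime hpow2 hne'), g, ?_⟩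
      rw [SubmonoidClass.coe_pow, Subgroup.coe_mul]
      have hxy : g⁻¹ * ((x : G) * y) * g ∈ Q := by
        have := mul_mem hg hyg
        simpa [mul_assoc] using this
      have := pow_mem hxy (Nat.card ↥O)
      rwa [show g⁻¹ * ((x : G) * y) * g = g⁻¹ * ((x : G) * y) * g⁻¹⁻¹ by rw [inv_inv], conj_pow, inv_inv] at this
    · obtain ⟨m, hm⟩ := hOodd
      rw [map_pow, hm, pow_succ, pow_mul, pow_two, map_mul, hsq, one_pow, one_mul]
  -- Bender's theorem in `L`
  have hLse : Cfsg.IsStronglyPEmbedded 2 (((Nq Q).map π).subgroupOf L) := by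
    obtain ⟨hne', hev, hodd⟩ := isolated_iff.1 hiso
    exact Invol.isStronglyPEmbedded_iff.2 ⟨even_iff_two_dvd.1 hev, hne', fun g hg hd =>
      Nat.not_even_iff_odd.2 (hodd g hg) (even_iff_two_dvd.2 hd)⟩
  have hgenB : Subgroup.closure (φ '' Z) = ⊤ := by
    rw [← MonoidHom.map_closure, hgen, ← MonoidHom.range_eq_map, MonoidHom.range_eq_top.2 hφs]
  have hpec : Cfsg.pElementClosure 2 (⊤ : Subgroup (↥L ⧸ OL)) = ⊤ := pElementClosure_eq_top hgenB (by
    rintro _ ⟨z, hz, rfl⟩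
    rw [← map_mul, (hZ2 z hz).1, map_one])
  let e : ↥(Cfsg.pElementClosure 2 (⊤ : Subgroup (↥L ⧸ OL))) ≃* ↥L ⧸ OL :=
    (MulEquiv.subgroupCongr hpec).trans Subgroup.topEquiv
  rcases Cfsg.Agent.S2798.result _ hLse with h1 | h1
  · -- one involution modulo the core
    obtain ⟨q, hq, hq2⟩ := h.exists_invol
    have hqS : (⟨q, subset_closure (mem_invSet_of_mem hq hq2)⟩ : ↥M) ∈ S := mem_invSet_of_mem hq hq2
    set x₀ : ↥M := ⟨q, subset_closure (mem_invSet_of_mem hq hq2)⟩
    have hρ2 : ∀ x ∈ S, orderOf (ρ x) = 2 := fun x hx => Invol.orderOf_two_iff.2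
      ⟨by rw [← map_mul, Invol.mul_self_of_orderOf_two (hS2 x hx), map_one], fun e => (hρker x e).elim
        (Invol.ne_one_of_orderOf_two (hS2 x hx)) fun e => hSu x hx (by rw [e])⟩
    have hcen : ∀ g, Commute (QuotientGroup.mk' OL g) (QuotientGroup.mk' OL (ρ x₀)) := by
      intro g
      have hg : g ∈ OL ⊔ Subgroup.centralizer ({ρ x₀} : Set ↥L) := by
        rw [(h1 _ (hρ2 x₀ hqS)).1]; exact mem_top g
      obtain ⟨y, hy, c, hc, rfl⟩ := Subgroup.mem_sup_of_normal_left.1 hg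
      rw [map_mul, show QuotientGroup.mk' OL y = 1 from (QuotientGroup.eq_one_iff _).2 hy, one_mul]
      exact (show Commute c (ρ x₀) from mem_centralizer_singleton_iff.1 hc).map _
    have hall : ∀ x ∈ S, QuotientGroup.mk' OL (ρ x) = QuotientGroup.mk' OL (ρ x₀) := by
      intro x hx
      have hxI : (x : G) ∈ invSet Q := hx
      obtain ⟨T⟩ : Nonempty (Sylow 2 ↥(Subgroup.centralizer ({ρ x₀} : Set ↥L))) := inferInstance
      -- the centraliser of `ρ x₀` contains a Sylow subgroup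
      obtain ⟨P, hP⟩ := (T.isPGroup'.map (Subgroup.centralizer ({ρ x₀} : Set ↥L)).subtype).exists_le_sylow
      obtain ⟨c, hc⟩ : ∃ c : ↥L, ρ x₀ ∈ c • P := by
        obtain ⟨a, ha⟩ := Invol.exists_conj_mem_sylow (p := 2) (n := 1) (x := ρ x₀) (by rw [hρ2 x₀ hqS, pow_one]) P
        refine ⟨a⁻¹, ?_⟩
        show ρ x₀ ∈ ((a⁻¹ • P : Sylow 2 ↥L) : Subgroup ↥L)
        rw [Sylow.coe_subgroup_smul, Subgroup.mem_pointwise_smul_iff_inv_smul_mem]
        have ha' : a * ρ x₀ * a⁻¹ ∈ (P : Subgroup ↥L) := ha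
        simpa [MulAut.smul_def, mul_assoc] using ha'
      obtain ⟨z, -, hz2, hzc⟩ : ∃ z ∈ ((c • P : Sylow 2 ↥L) : Subgroup ↥L), orderOf z = 2 ∧
          ∀ r ∈ ((c • P : Sylow 2 ↥L) : Subgroup ↥L), Commute r z := by
        refine Block.PNilHall.exists_involution (c • P).isPGroup' fun e => ?_
        rw [show ρ x₀ ∈ (c • P) ↔ ρ x₀ ∈ ((c • P : Sylow 2 ↥L) : Subgroup ↥L) from Iff.rfl, e, mem_bot] at hc
        exact Invol.ne_one_of_orderOf_two (hρ2 x₀ hqS) hc
      have hz : z = ρ x₀ := (h1 _ (hρ2 x₀ hqS)).2 z (mem_centralizer_singleton_iff.2 (hzc _ hc).symm.eq) hz2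
      obtain ⟨d, hd⟩ := Invol.exists_conj_mem_sylow (p := 2) (n := 1) (x := ρ x) (by rw [hρ2 x hx, pow_one]) (c • P)
      have hd2 : d * ρ x * d⁻¹ = ρ x₀ := (h1 _ (hρ2 x₀ hqS)).2 _
        (mem_centralizer_singleton_iff.2 (hz ▸ (hzc _ hd)).eq) ((Invol.orderOf_conj_eq d _).trans (hρ2 x hx))
      have := congrArg (QuotientGroup.mk' OL) hd2
      rw [map_mul, map_mul, map_inv] at this
      have h3 : QuotientGroup.mk' OL (ρ x) =
          (QuotientGroup.mk' OL d)⁻¹ * QuotientGroup.mk' OL (ρ x₀) * QuotientGroup.mk' OL d := by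
        rw [← this]; group
      rw [h3, mul_assoc, ← (hcen d).eq, inv_mul_cancel_left]
    have hdiff : ∃ z ∈ Z, z ≠ QuotientGroup.mk' O x₀ := by
      by_contra hno
      push Not at hno
      have hle : Subgroup.closure Z ≤ Subgroup.zpowers (QuotientGroup.mk' O x₀) := by
        rw [Subgroup.closure_le]
        intro z hz
        rw [hno z hz]
        exact mem_zpowers _
      obtain ⟨k, hk⟩ := mem_zpowers_iff.1 (hle (hgen ▸ mem_top ub))
      rcases Int.even_or_odd' k with ⟨m, hm | hm⟩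
      · rw [hm, zpow_mul, zpow_two, (hZ2 _ ⟨x₀, hqS, rfl⟩).1, one_zpow] at hk
        exact hub1 hk.symm
      · rw [hm, zpow_add, zpow_mul, zpow_two, (hZ2 _ ⟨x₀, hqS, rfl⟩).1, one_zpow, one_mul, zpow_one] at hk
        exact huZ ⟨x₀, hqS, hk⟩
    obtain ⟨_, ⟨x, hx, rfl⟩, hxne⟩ := hdiff
    have hxe : QuotientGroup.mk' O x = QuotientGroup.mk' O x₀ * ub := by
      have h0 : φ ((QuotientGroup.mk' O x₀)⁻¹ * QuotientGroup.mk' O x) = 1 := by
        rw [map_mul, map_inv, show φ (QuotientGroup.mk' O x) = φ (QuotientGroup.mk' O x₀) from hall x hx,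
          inv_mul_cancel]
      rcases hφker _ h0 with e | e
      · exact absurd (inv_mul_eq_one.1 e).symm hxne
      · rw [← e, mul_inv_cancel_left]
    refine huZ ?_
    have h4 := hmul _ ⟨x₀, hqS, rfl⟩ _ ⟨x, hx, rfl⟩ (by rw [hxe, ← mul_assoc, mul_assoc _ ub, hubc, mul_assoc])
      hxne.symm
    rwa [hxe, ← mul_assoc, (hZ2 _ ⟨x₀, hqS, rfl⟩).1, one_mul] at h4
  · refine Invol.BenderCover.bender_cover_false φ hφs ub hubc hub2 hub1 hφu hφker (Q := ↥L ⧸ OL) ?_ Z hZ2 hZc
      hgen huZ hmul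
    rcases h1 with ⟨F, i1, i2, hc, h4, ⟨e'⟩⟩ | ⟨F, i1, i2, q, hq, h4, hF, ⟨e'⟩⟩ | h1
    · exact Or.inl ⟨F, i1, i2, hc, h4, ⟨e.symm.trans e'⟩⟩
    · exact Or.inr (Or.inl ⟨F, i1, i2, q, hq, h4, hF, ⟨e.symm.trans e'⟩⟩)
    · exact Or.inr (Or.inr (CoreConsumers.isoSuzuki_congr h1 e.symm))

end Cfsg.Agent.Fus.Tight
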