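import Mathlib
import Cfsg.Agent.Lib.Fus.TightCriterion.Basic
import Cfsg.Agent.Lib.Fus.TightCriterion.Cover

/-!
# `N(Q)` is strongly embedded in the group generated by the involutions of the conjugates of `Q`

Aschbacher's criterion is a hypothesis; its inductive clause comes from the statement for `C(u)`, and
for `G / ⟨u⟩` when `u` is central.
-/

set_option autoImplicit false

namespace Cfsg.Agent.Fus.Tight

open Subgroup

universe u

/-- Aschbacher's criterion (the statement S1913). -/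
def Criterion : Prop :=
  ∀ {G : Type u} [Group G] [Finite G] (P : Sylow 2 G) (z : G), orderOf z = 2 →
      z ∈ (Subgroup.center ↥(P : Subgroup G)).map (P : Subgroup G).subtype → ∀ H : Subgroup G, H ≠ ⊤ →
      (∀ g : G, z ∈ H.map (MulAut.conj g).toMonoidHom ↔ g ∈ H) →
      (∀ u : G, orderOf u = 2 → u * z = z * u → ¬ Subgroup.centralizer ({u} : Set G) ≤ H →
        Cfsg.IsStronglyEmbedded (H.subgroupOf (Subgroup.closure {x : G | IsConj z x ∧ x * u = u * x}))) →
      Cfsg.IsStronglyEmbedded (H.subgroupOf (Subgroup.normalClosure ({z} : Set G)))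

variable {G : Type u} [Group G] [Finite G] {Q : Subgroup G}

/-- The hypothesis for the centraliser of an involution commuting with `q ∈ Q`. -/
theorem Hyp.restrict (h : Hyp Q) {q : G} (hq : q ∈ Q) (hq2 : orderOf q = 2) {C : Subgroup G} (hqC : q ∈ C)
    (hC : ¬ C ≤ Nq Q) :
    Hyp (Q.subgroupOf C) ∧ Nq (Q.subgroupOf C) = (Nq Q).subgroupOf C := by
  have heq : Nq (Q.subgroupOf C) = (Nq Q).subgroupOf C := by
    refine le_antisymm (fun c hc => ?_) fun c hc => mem_normalizer_iff.2 fun y => ?_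
    · refine h.moves q hq hq2 c (le_normalizer ?_)
      exact (mem_normalizer_iff.1 hc ⟨q, hqC⟩).1 hq
    · rw [mem_subgroupOf, mem_subgroupOf, Subgroup.coe_mul, Subgroup.coe_mul, Subgroup.coe_inv]
      exact mem_normalizer_iff.1 hc y
  refine ⟨⟨?_, fun t ht ht2 g hg => ?_, fun e => ?_⟩, heq⟩
  · exact Invol.even_card_of_mem (t := (⟨q, hqC⟩ : C)) (by rw [Subgroup.orderOf_mk, hq2]) hq
  · rw [heq, mem_subgroupOf] at hg ⊢
    exact h.moves t ht ((orderOf_coe t).trans ht2) g (by simpa using hg)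
  · rw [heq, subgroupOf_eq_top] at e
    exact hC e

/-- Distinguished involutions of `C` come from `C`. -/
theorem Hyp.mem_invSet_restrict (h : Hyp Q) {q : G} (hq : q ∈ Q) (hq2 : orderOf q = 2) {C : Subgroup G}
    (hqC : q ∈ C) {x : G} (hx : x ∈ invSet Q) (hxC : x ∈ C) : (⟨x, hxC⟩ : C) ∈ invSet (Q.subgroupOf C) := by
  obtain ⟨hx2, g, hg⟩ := id hx
  have ho : orderOf (⟨x, hxC⟩ : C) = 2 := by rw [Subgroup.orderOf_mk, hx2]
  by_cases hgN : g ∈ Nq Q
  · refine mem_invSet_of_mem ?_ ho
    show x ∈ Q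
    simpa [mul_assoc] using mem_Nq_conj hgN hg
  · obtain ⟨d, hd, hdx⟩ := h.conj_in_pair hq hq2 hx2 hg hgN
    have hdC : d ∈ C := by
      refine (closure_le C).2 ?_ hd
      intro y hy
      rcases hy with rfl | rfl
      exacts [hxC, hqC]
    refine ⟨ho, ⟨d, hdC⟩, ?_⟩
    show d⁻¹ * x * d ∈ Q
    rw [← hdx]
    simpa [mul_assoc] using hq

/-- The hypothesis modulo a central involution outside `Q`. -/
theorem Hyp.quotient (h : Hyp Q) {u : G} (hu2 : orderOf u = 2) (huc : ∀ g, u * g = g * u) (huQ : u ∉ Q)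
    {H : Type u} [Group H] [Finite H] (π : G →* H) (hsurj : Function.Surjective π)
    (hker : ∀ g, π g = 1 → g = 1 ∨ g = u) (hπu : π u = 1) :
    Hyp (Q.map π) ∧ Nq (Q.map π) = (Nq Q).map π := by
  obtain ⟨q, hq, hq2⟩ := h.exists_invol
  have huN : u ∈ Nq Q := h.mem_of_commute hq hq2 (huc q)
  have hlift : ∀ {n : G}, π n ∈ (Nq Q).map π → n ∈ Nq Q := by
    rintro n ⟨m, hm, hmn⟩
    rcases hker (m⁻¹ * n) (by rw [map_mul, map_inv, hmn, inv_mul_cancel]) with e | e
    · exact inv_mul_eq_one.1 e ▸ hm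
    · rw [show n = m * u by rw [← e, mul_inv_cancel_left]]
      exact mul_mem hm huN
  have hQlift : ∀ {n : G}, π n ∈ Q.map π → n ∈ Nq Q := fun {n} hn =>
    hlift (map_mono le_normalizer hn)
  have heq : Nq (Q.map π) = (Nq Q).map π := by
    refine le_antisymm (fun c hc => ?_) ?_
    · obtain ⟨c, rfl⟩ := hsurj c
      refine ⟨c, h.moves q hq hq2 c (hQlift ?_), rfl⟩
      rw [map_mul, map_mul, map_inv]
      exact (mem_normalizer_iff.1 hc _).1 ⟨q, hq, rfl⟩
    · exact le_normalizer_map _
  have hne : π q ≠ 1 := fun e => (hker q e).elim (Invol.ne_one_of_orderOf_two hq2) fun e => huQ (e ▸ hq)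
  refine ⟨⟨Invol.even_card_of_mem (t := π q) (Invol.orderOf_two_iff.2
    ⟨by rw [← map_mul, Invol.mul_self_of_orderOf_two hq2, map_one], hne⟩) ⟨q, hq, rfl⟩, ?_, fun e => ?_⟩, heq⟩
  · rintro _ ⟨t, ht, rfl⟩ ht2 g hg
    obtain ⟨g, rfl⟩ := hsurj g
    have ht2' : orderOf t = 2 := by
      obtain ⟨h1, h2⟩ := Invol.orderOf_two_iff.1 ht2
      refine Invol.orderOf_two_iff.2 ⟨(hker (t * t) (by rw [map_mul]; exact h1)).resolve_right ?_, ?_⟩
      · exact fun e => huQ (e ▸ mul_mem ht ht)
      · exact fun e => h2 (by rw [e, map_one])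
    rw [heq] at hg ⊢
    refine ⟨g, h.moves t ht ht2' g (hlift ?_), rfl⟩
    rwa [map_mul, map_mul, map_inv]
  · obtain ⟨g, hg⟩ := h.exists_outside
    exact hg (hlift (heq ▸ e ▸ mem_top (π g)))

theorem closure_invSet_normal : (Subgroup.closure (invSet Q)).Normal := by
  refine ⟨fun n hn g => ?_⟩
  have h1 : (Subgroup.closure (invSet Q)).map (MulAut.conj g).toMonoidHom ≤ Subgroup.closure (invSet Q) := by
    rw [MonoidHom.map_closure, closure_le]
    rintro _ ⟨x, hx, rfl⟩
    exact subset_closure (conj_mem_invSet hx g)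
  exact h1 ⟨n, hn, rfl⟩

/-- All distinguished involutions generate the normal closure of one of them. -/
theorem Hyp.closure_eq (h : Hyp Q) {z : G} (hz : z ∈ Q) (hz2 : orderOf z = 2) :
    Subgroup.normalClosure ({z} : Set G) = Subgroup.closure (invSet Q) := by
  haveI := closure_invSet_normal (Q := Q)
  refine le_antisymm (normalClosure_le_normal (Set.singleton_subset_iff.2
    (subset_closure (mem_invSet_of_mem hz hz2)))) ((closure_le _).2 fun x hx => ?_)
  obtain ⟨g, rfl⟩ := _root_.isConj_iff.1 (h.isConj hz hz2 hx)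
  have hzm : z ∈ Subgroup.normalClosure ({z} : Set G) := subset_normalClosure (Set.mem_singleton z)
  exact (Subgroup.normalClosure_normal (s := ({z} : Set G))).conj_mem z hzm g

/-- The inductive form of the theorem. -/
theorem isolated_closure (hA : Criterion.{u}) (n : ℕ) :
    ∀ (G : Type u) [Group G] [Finite G], Nat.card G ≤ n → ∀ Q : Subgroup G, Hyp Q →
      Isolated (Nq Q) (Subgroup.closure (invSet Q)) := by
  induction n with
  | zero =>
    intro G _ _ hG Q _
    exact absurd hG (by have := Nat.card_pos (α := G); omega)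
  | succ n ih =>
    intro G _ _ hG Q h
    obtain ⟨P, z, hPN, hzQ, hz2, hzP, hzc⟩ := h.exists_central
    have hzC : z ∈ (Subgroup.center ↥(P : Subgroup G)).map (P : Subgroup G).subtype :=
      ⟨⟨z, hzP⟩, mem_center_iff.2 fun x => Subtype.ext (hzc x x.2), rfl⟩
    have hi : ∀ g : G, z ∈ (Nq Q).map (MulAut.conj g).toMonoidHom ↔ g ∈ Nq Q := by
      intro g
      rw [Invol.mem_map_conj]
      refine ⟨fun hg => ?_, fun hg => ?_⟩
      · exact inv_mem_iff.1 (h.moves z hzQ hz2 g⁻¹ (by simpa using hg))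
      · exact mul_mem (mul_mem (inv_mem hg) (le_normalizer hzQ)) hg
    rw [← h.closure_eq hzQ hz2, isolated_iff]
    refine hA P z hz2 hzC (Nq Q) h.ne_top hi fun u hu huz hnle => ?_
    rw [← isolated_iff]
    obtain ⟨C, hC⟩ : ∃ C, C = Subgroup.centralizer ({u} : Set G) := ⟨_, rfl⟩
    have hzCu : z ∈ C := hC ▸ mem_centralizer_singleton_iff.2 huz.symm
    obtain ⟨c, hcC, hcN⟩ := SetLike.not_le_iff_exists.1 (hC.symm ▸ hnle : ¬ C ≤ Nq Q)
    set S := {x : G | IsConj z x ∧ x * u = u * x} with hS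
    have hSinv : ∀ x ∈ S, x ∈ invSet Q ∧ x ∈ C := by
      rintro x ⟨hx1, hx2⟩
      obtain ⟨g, rfl⟩ := _root_.isConj_iff.1 hx1
      exact ⟨conj_mem_invSet (mem_invSet_of_mem hzQ hz2) g, hC ▸ mem_centralizer_singleton_iff.2 hx2⟩
    have hzL : z ∈ Subgroup.closure S := subset_closure ⟨IsConj.refl z, huz.symm⟩
    have hLN : ¬ Subgroup.closure S ≤ Nq Q := fun hle => by
      have hcz : c * z * c⁻¹ ∈ S := by
        refine ⟨_root_.isConj_iff.2 ⟨c, rfl⟩, ?_⟩
        have h1 : Commute c u := mem_centralizer_singleton_iff.1 (hC ▸ hcC)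
        have h2 : Commute z u := huz.symm
        exact ((h1.mul_left h2).mul_left h1.inv_left).eq
      exact hcN (h.moves z hzQ hz2 c (hle (subset_closure hcz)))
    by_cases htop : C = ⊤
    · -- `u` is central
      have huc : ∀ g : G, u * g = g * u := fun g =>
        (mem_centralizer_singleton_iff.1 (hC ▸ htop.ge (mem_top g))).symm
      have huQ : u ∉ Q := fun huQ => by
        obtain ⟨g, hg⟩ := h.exists_outside
        refine hg (h.moves u huQ hu g (le_normalizer ?_))
        rwa [← huc, mul_inv_cancel_right]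
      haveI : (Subgroup.zpowers u).Normal := ⟨fun a ha g => by
        obtain ⟨k, rfl⟩ := mem_zpowers_iff.1 ha
        rw [← ((show Commute u g from huc g).zpow_left k).eq, mul_inv_cancel_right]
        exact ha⟩
      set π := QuotientGroup.mk' (Subgroup.zpowers u) with hπ
      have hker : ∀ g, π g = 1 → g = 1 ∨ g = u := fun g hg => by
        obtain ⟨k, rfl⟩ := mem_zpowers_iff.1 ((QuotientGroup.eq_one_iff g).1 hg)
        rcases Int.even_or_odd' k with ⟨m, rfl | rfl⟩
        · left; rw [zpow_mul, zpow_two, Invol.mul_self_of_orderOf_two hu, one_zpow]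
        · right; rw [zpow_add, zpow_mul, zpow_two, Invol.mul_self_of_orderOf_two hu, one_zpow, one_mul, zpow_one]
      have hπu : π u = 1 := (QuotientGroup.eq_one_iff u).2 (mem_zpowers u)
      obtain ⟨hH, hNeq⟩ := h.quotient hu huc huQ π (QuotientGroup.mk'_surjective _) hker hπu
      have hlt : Nat.card (G ⧸ Subgroup.zpowers u) ≤ n := by
        have h1 := Subgroup.card_eq_card_quotient_mul_card_subgroup (Subgroup.zpowers u)
        rw [Nat.card_zpowers, hu] at h1
        have := Nat.card_pos (α := G)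
        omega
      have hih := ih _ hlt (Q.map π) hH
      rw [hNeq] at hih
      have huN : u ∈ Nq Q := h.mem_of_commute hzQ hz2 (huc z)
      have hiso : Isolated ((Nq Q).map π) ((Subgroup.closure (invSet Q)).map π) := by
        refine hih.mono ?_ ?_ ⟨z, subset_closure (mem_invSet_of_mem hzQ hz2), rfl⟩ ⟨z, le_normalizer hzQ, rfl⟩ ?_
        · rw [MonoidHom.map_closure, closure_le]
          rintro _ ⟨x, ⟨hx2, g, hg⟩, rfl⟩
          refine subset_closure ⟨Invol.orderOf_two_iff.2 ⟨?_, ?_⟩, π g, g⁻¹ * x * g, hg, by simp⟩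
          · rw [← map_mul, Invol.mul_self_of_orderOf_two hx2, map_one]
          · intro e
            rcases hker x e with rfl | rfl
            · exact Invol.ne_one_of_orderOf_two hx2 rfl
            · exact huQ (by rw [mul_assoc, huc g, ← mul_assoc, inv_mul_cancel, one_mul] at hg; exact hg)
        · intro hle
          obtain ⟨m, hm, hme⟩ := hle ⟨c * z * c⁻¹,
            subset_closure (conj_mem_invSet (mem_invSet_of_mem hzQ hz2) c), rfl⟩
          refine hcN (h.moves z hzQ hz2 c ?_)
          rcases hker (m⁻¹ * (c * z * c⁻¹)) (by rw [map_mul, map_inv, hme, inv_mul_cancel]) with e | e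
          · rwa [← inv_mul_eq_one.1 e]
          · rw [show c * z * c⁻¹ = m * u by rw [← e, mul_inv_cancel_left]]
            exact mul_mem hm huN
        · exact Invol.orderOf_two_iff.2 ⟨by rw [← map_mul, Invol.mul_self_of_orderOf_two hz2, map_one],
            fun e => (hker z e).elim (Invol.ne_one_of_orderOf_two hz2) fun e => huQ (e ▸ hzQ)⟩
      have hnot := h.central_notMem hu huc huQ π hker hπu hiso
      refine ⟨hLN, ⟨z, hzL, le_normalizer hzQ, hz2⟩, fun t htL htN ht2 g hgL hgt => ?_⟩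
      have hle : Subgroup.closure S ≤ Subgroup.closure (invSet Q) := closure_mono fun x hx => (hSinv x hx).1
      have ht' : π t ≠ 1 := fun e => (hker t e).elim (Invol.ne_one_of_orderOf_two ht2) fun e =>
        hnot (e ▸ hle htL)
      have := hiso.2.2 (π t) ⟨t, hle htL, rfl⟩ ⟨t, htN, rfl⟩ (Invol.orderOf_two_iff.2
        ⟨by rw [← map_mul, Invol.mul_self_of_orderOf_two ht2, map_one], ht'⟩) (π g) ⟨g, hle hgL, rfl⟩
        ⟨g * t * g⁻¹, hgt, by simp⟩
      obtain ⟨m, hm, hme⟩ := this
      rcases hker (m⁻¹ * g) (by rw [map_mul, map_inv, hme, inv_mul_cancel]) with e | e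
      · exact inv_mul_eq_one.1 e ▸ hm
      · rw [show g = m * u by rw [← e, mul_inv_cancel_left]]
        exact mul_mem hm huN
    · -- a proper centraliser
      obtain ⟨hH, hNeq⟩ := h.restrict hzQ hz2 hzCu (fun hle => hcN (hle hcC))
      have hlt : Nat.card C < Nat.card G := by
        refine lt_of_le_of_ne (Subgroup.card_le_card_group C) fun e => htop ?_
        exact Subgroup.eq_top_of_card_eq C e
      have hih := ih _ (by omega) (Q.subgroupOf C) hH
      rw [hNeq] at hih
      have hle : Subgroup.closure S ≤ (Subgroup.closure (invSet (Q.subgroupOf C))).map C.subtype := by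
        rw [closure_le]
        intro x hx
        exact ⟨⟨x, (hSinv x hx).2⟩,
          subset_closure (h.mem_invSet_restrict hzQ hz2 hzCu (hSinv x hx).1 (hSinv x hx).2), rfl⟩
      refine ⟨hLN, ⟨z, hzL, le_normalizer hzQ, hz2⟩, fun t htL htN ht2 g hgL hgt => ?_⟩
      obtain ⟨t', ht', rfl⟩ := hle htL
      obtain ⟨g', hg', rfl⟩ := hle hgL
      exact hih.2.2 t' ht' htN ((orderOf_coe t').symm.trans ht2) g' hg' hgt

/-- The theorem for a group. -/
theorem Hyp.isolated (h : Hyp Q) (hA : Criterion.{u}) : Isolated (Nq Q) (Subgroup.closure (invSet Q)) :=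
  isolated_closure hA (Nat.card G) G le_rfl Q h

/-- The hypothesis of S1911 and S3121. -/
theorem hyp_of_tight {Q : Subgroup G} (hQ : Cfsg.IsTightlyEmbedded Q)
    (hodd : ∀ g : G, g ∉ Subgroup.normalizer (Q : Set G) →
      Odd (Nat.card ↥(Q.map (MulAut.conj g).toMonoidHom ⊓ Subgroup.normalizer (Q : Set G))))
    (hn : ¬ Q.Normal) : Hyp Q := by
  refine ⟨hQ.1, fun t ht ht2 g hg => ?_, fun e => hn (normalizer_eq_top_iff.1 e)⟩
  by_contra hgN
  refine Nat.not_even_iff_odd.2 (hodd g hgN) (Invol.even_card_of_mem (t := g * t * g⁻¹) ?_ ?_)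
  · exact (Invol.orderOf_conj_eq g t).trans ht2
  · exact ⟨⟨t, ht, rfl⟩, hg⟩

end Cfsg.Agent.Fus.Tight
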