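import Mathlib
import Cfsg.Prelude.Def_EvenType
import Cfsg.Agent.Lib.Invol.BenderCover.Main
import Cfsg.Agent.Lib.Local.CoreConsumers.BorelMaximal
import Cfsg.Agent.Lib.Local.CoreConsumers.SimpleBorel

/-!
# Borel data of Bender's groups at an arbitrary Sylow 2-subgroup
-/

set_option autoImplicit false

namespace Cfsg.Agent.Fus.Tight

open Subgroup
open scoped commutatorElement

universe v

/-- What the closure argument uses about a Sylow 2-subgroup `S`. -/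
def BorelData (B : Type v) [Group B] : Prop :=
  ∀ S : Sylow 2 B, ∃ (W : Subgroup B) (d e : B),
    (∀ w ∈ W, w * w = 1) ∧ (∀ x ∈ (S : Subgroup B), ∀ y ∈ (S : Subgroup B), ⁅x, y⁆ ∈ W) ∧
    (∃ a ∈ W, ∃ b ∈ W, a ≠ 1 ∧ b ≠ 1 ∧ a ≠ b) ∧ W ≤ (S : Subgroup B) ∧
    (∀ x ∈ (S : Subgroup B), d * x * d⁻¹ ∈ (S : Subgroup B)) ∧
    (∀ x ∈ (S : Subgroup B), e * x * e⁻¹ ∈ (S : Subgroup B)) ∧
    ∀ x ∈ (S : Subgroup B), (e * x * e⁻¹)⁻¹ * (x * (d * x * d⁻¹)) ∈ W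

theorem borelData_of_torus {B : Type v} [Group B] [Finite B]
    (h : Invol.BenderCover.TorusSylow B) : BorelData B := by
  haveI : Fact (Nat.Prime 2) := ⟨Nat.prime_two⟩
  obtain ⟨Pb, W, hp, hi, hWP, hW2, -, -, hcomm, ⟨a, ha, b, hb, ha1, hb1, hab⟩, -, d, e, hd, he, hde, -⟩ := h
  intro S
  obtain ⟨g, hg⟩ := MulAction.exists_smul_eq B (hp.toSylow hi) S
  have hS : (S : Subgroup B) = Pb.map (MulAut.conj g).toMonoidHom := by
    rw [← hg, Sylow.coe_subgroup_smul]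
    rfl
  have hmem : ∀ {x : B}, x ∈ (S : Subgroup B) → g⁻¹ * x * g ∈ Pb := fun {x} hx => by
    rw [hS] at hx
    obtain ⟨y, hy, rfl⟩ := hx
    simpa [mul_assoc] using hy
  have hback : ∀ {x : B}, x ∈ Pb → g * x * g⁻¹ ∈ (S : Subgroup B) := fun {x} hx => hS ▸ ⟨x, hx, rfl⟩
  refine ⟨W.map (MulAut.conj g).toMonoidHom, g * d * g⁻¹, g * e * g⁻¹, ?_, fun x hx y hy => ?_,
    ⟨_, ⟨a, ha, rfl⟩, _, ⟨b, hb, rfl⟩, ?_, ?_, ?_⟩, hS ▸ map_mono hWP, fun x hx => ?_, fun x hx => ?_,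
    fun x hx => ?_⟩
  · rintro _ ⟨w, hw, rfl⟩
    rw [← map_mul, hW2 w hw, map_one]
  · refine ⟨⁅g⁻¹ * x * g, g⁻¹ * y * g⁆, hcomm _ (hmem hx) _ (hmem hy), ?_⟩
    simp [commutatorElement_def, mul_assoc]
  · exact fun h => ha1 ((MulAut.conj g).map_eq_one_iff.1 h)
  · exact fun h => hb1 ((MulAut.conj g).map_eq_one_iff.1 h)
  · exact fun h => hab ((MulAut.conj g).injective h)
  · simpa [mul_assoc] using hback (hd _ (hmem hx))
  · simpa [mul_assoc] using hback (he _ (hmem hx))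
  · refine ⟨_, hde _ (hmem hx), ?_⟩
    simp [mul_assoc]

theorem data_of_bender {Q : Type v} [Group Q] [Finite Q]
    (hQ : (∃ (F : Type) (_ : Field F) (_ : Fintype F), CharP F 2 ∧ 4 ≤ Fintype.card F ∧
        Nonempty (Q ≃* Matrix.SpecialLinearGroup (Fin 2) F)) ∨
      (∃ (F : Type) (_ : Field F) (_ : Fintype F) (q : ℕ), Even q ∧ 4 ≤ q ∧
        Fintype.card F = q ^ 2 ∧ Nonempty (Q ≃* Cfsg.PSU 3 F q)) ∨
      Cfsg.Lie.IsoSuzuki Q) :
    BorelData Q ∧ CoreConsumers.BorelMax Q ∧ CoreConsumers.BorelIndex Q := by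
  refine ⟨borelData_of_torus (Invol.BenderCover.torusSylow_bender hQ), ?_⟩
  rcases hQ with ⟨F, i1, i2, hc, h4, ⟨e⟩⟩ | ⟨F, i1, i2, q, hq, h4, hF, ⟨e⟩⟩ | h
  · obtain ⟨k, hk⟩ := FiniteField.card F 2
    have heven : Even (Fintype.card F) := by
      rw [hk.2]; exact Nat.even_pow.2 ⟨even_two, k.pos.ne'⟩
    have h2F : (2 : F) = 0 := CharTwo.two_eq_zero
    let e' : Q ≃* Matrix.ProjectiveSpecialLinearGroup (Fin 2) F := e.trans
      ((QuotientGroup.quotientMulEquivOfEq (Fus.CTSimple.center_eq_bot_of_two h2F)).trans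
        QuotientGroup.quotientBot).symm
    exact ⟨(CoreConsumers.borel_psl heven h4).1.congr e', (CoreConsumers.borel_psl heven h4).2.congr e'⟩
  · exact ⟨(CoreConsumers.borel_psu hF hq h4).1.congr e, (CoreConsumers.borel_psu hF hq h4).2.congr e⟩
  · exact ⟨CoreConsumers.borelMax_suzuki h, CoreConsumers.borelIndex_suzuki h⟩

end Cfsg.Agent.Fus.Tight
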