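import Mathlib
import Cfsg.Agent.Lib.Grp.Cores
import Cfsg.Agent.Lib.Invol.Basic

/-!
# A 2-element of a product lies in the product of the Sylow traces
-/

set_option autoImplicit false

namespace Cfsg.Agent.Fus.Tight

open Subgroup

variable {G : Type*} [Group G] [Finite G]

/-- If `S` is a 2-group whose trace on `A` has odd index and `B` is normalised by both, then an element of
`S` in `A ⊔ B` is a product of an element of `S ⊓ A` and one of `S ⊓ B`. -/
theorem split_of_sylow {S A B : Subgroup G} (hS : IsPGroup 2 S) (hA : A ≤ Subgroup.normalizer (B : Set G))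
    (hSB : S ≤ Subgroup.normalizer (B : Set G)) (hidx : ¬ 2 ∣ (S ⊓ A).relIndex A) {x : G} (hxS : x ∈ S)
    (hx : x ∈ A ⊔ B) : ∃ a b : G, a ∈ S ∧ a ∈ A ∧ b ∈ S ∧ b ∈ B ∧ x = a * b := by
  haveI : Fact (Nat.Prime 2) := ⟨Nat.prime_two⟩
  set f := QuotientGroup.mk' (B.subgroupOf (Subgroup.normalizer (B : Set G))) with hf
  set φ := f.comp (Subgroup.inclusion hA) with hφ
  set ψ := f.comp (Subgroup.inclusion hSB) with hψ
  -- `x` has the same image as some element of `A`
  obtain ⟨a₀, ha₀, b₀, hb₀, rfl⟩ : ∃ a ∈ A, ∃ b ∈ B, a * b = x := by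
    have h1 := Subgroup.coe_mul_of_left_le_normalizer_right A B hA
    have h2 : x ∈ ((A ⊔ B : Subgroup G) : Set G) := hx
    rw [h1] at h2
    exact h2
  have hval : ψ ⟨a₀ * b₀, hxS⟩ = φ ⟨a₀, ha₀⟩ := by
    symm
    refine (QuotientGroup.eq).2 ?_
    simpa [mem_subgroupOf] using hb₀
  have hp : IsPGroup 2 ↥(S.subgroupOf A) := hS.comap_subtype
  let T : Sylow 2 A := hp.toSylow (by rwa [Subgroup.inf_relIndex_right] at hidx)
  let U : Sylow 2 φ.range := T.mapSurjective φ.rangeRestrict_surjective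
  have hU : (ψ.range.subgroupOf φ.range) = (U : Subgroup φ.range) := by
    refine U.is_maximal' ?_ ?_
    · exact (hS.of_surjective ψ.rangeRestrict ψ.rangeRestrict_surjective).comap_subtype
    · rw [Sylow.coe_mapSurjective]
      rintro _ ⟨t, ht, rfl⟩
      exact ⟨⟨(t : G), ht⟩, rfl⟩
  have hmem : (⟨φ ⟨a₀, ha₀⟩, ⟨_, rfl⟩⟩ : φ.range) ∈ (U : Subgroup φ.range) := by
    rw [← hU, mem_subgroupOf]
    exact ⟨_, hval⟩
  rw [Sylow.coe_mapSurjective] at hmem
  obtain ⟨t, ht, hte⟩ := hmem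
  have hte' : φ t = φ ⟨a₀, ha₀⟩ := congrArg Subtype.val hte
  have hb : (t : G)⁻¹ * a₀ ∈ B := by
    have := (QuotientGroup.eq).1 hte'
    simpa [mem_subgroupOf] using this
  have htS : (t : G) ∈ S := ht
  exact ⟨t, (t : G)⁻¹ * (a₀ * b₀), htS, t.2, mul_mem (inv_mem htS) hxS,
    by rw [← mul_assoc]; exact mul_mem hb hb₀, by group⟩

end Cfsg.Agent.Fus.Tight
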