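import Mathlib
import Cfsg.Agent.Lib.Fus.TightCriterion.Main
import Cfsg.Agent.Lib.Fus.TightCriterion.Models
import Cfsg.Agent.Lib.Fus.TightCriterion.Split
import Cfsg.Agent.Lib.Invol.SmallCent.FourFixed

/-!
# `N(Q)` is strongly embedded in `⟨Q^G⟩` (S1911)

`K = ⟨Q^G⟩ = M Q` with `M = ⟨Inv(Q)^G⟩`.  An involution `v = p r` of `K` fixing two points centralises
`P / R` (`R` the trace of `Q` on `P`); so some `v`-fixed element of the torus acts on `P / R` as the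
fixed-point-free element of the model, and it fixes `p`: hence `p ∈ R` and `v ∈ Q`.
-/

set_option autoImplicit false

namespace Cfsg.Agent.Fus.Tight

open Subgroup
open scoped commutatorElement

universe u

variable {G : Type u} [Group G] [Finite G] {Q : Subgroup G}

/-- In the one-involution case of Bender's theorem all involutions agree modulo the core. -/
theorem eq_mod_core {Y : Type u} [Group Y] [Finite Y] [(Cfsg.pPrimeCore 2 Y).Normal]
    (hY : ∀ t : Y, orderOf t = 2 → Cfsg.pPrimeCore 2 Y ⊔ Subgroup.centralizer ({t} : Set Y) = ⊤ ∧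
      ∀ u ∈ Subgroup.centralizer ({t} : Set Y), orderOf u = 2 → u = t)
    {a b : Y} (ha : orderOf a = 2) (hb : orderOf b = 2) :
    QuotientGroup.mk' (Cfsg.pPrimeCore 2 Y) a = QuotientGroup.mk' (Cfsg.pPrimeCore 2 Y) b := by
  haveI : Fact (Nat.Prime 2) := ⟨Nat.prime_two⟩
  have hcen : ∀ g, Commute (QuotientGroup.mk' (Cfsg.pPrimeCore 2 Y) g)
      (QuotientGroup.mk' (Cfsg.pPrimeCore 2 Y) a) := by
    intro g
    have hg : g ∈ Cfsg.pPrimeCore 2 Y ⊔ Subgroup.centralizer ({a} : Set Y) := by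
      rw [(hY a ha).1]; exact mem_top g
    obtain ⟨y, hy, c, hc, rfl⟩ := Subgroup.mem_sup_of_normal_left.1 hg
    rw [map_mul, show QuotientGroup.mk' (Cfsg.pPrimeCore 2 Y) y = 1 from (QuotientGroup.eq_one_iff _).2 hy,
      one_mul]
    exact (show Commute c a from mem_centralizer_singleton_iff.1 hc).map _
  obtain ⟨P, hP⟩ := (Invol.isPGroup_zpowers (p := 2) (n := 1) (x := a) (by rw [ha, pow_one])).exists_le_sylow
  have haP : a ∈ (P : Subgroup Y) := hP (mem_zpowers a)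
  obtain ⟨z, -, hz2, hzc⟩ : ∃ z ∈ (P : Subgroup Y), orderOf z = 2 ∧ ∀ r ∈ (P : Subgroup Y), Commute r z :=
    Block.PNilHall.exists_involution P.isPGroup' fun e => Invol.ne_one_of_orderOf_two ha (by
      rwa [e, mem_bot] at haP)
  have hz : z = a := (hY a ha).2 z (mem_centralizer_singleton_iff.2 (hzc _ haP).symm.eq) hz2
  obtain ⟨d, hd⟩ := Invol.exists_conj_mem_sylow (p := 2) (n := 1) (x := b) (by rw [hb, pow_one]) P
  have hd2 : d * b * d⁻¹ = a := (hY a ha).2 _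
    (mem_centralizer_singleton_iff.2 (hz ▸ (hzc _ hd)).eq) ((Invol.orderOf_conj_eq d _).trans hb)
  have h3 : b = d⁻¹ * a * d := by rw [← hd2]; group
  rw [h3, map_mul, map_mul, map_inv, mul_assoc, ← (hcen d).eq, inv_mul_cancel_left]

/-- The involutions of `⟨Inv(Q)^G⟩` inside `N(Q)` lie in `Q`. -/
theorem Hyp.mem_of_isolated (h : Hyp Q) (hiso : Isolated (Nq Q) (Subgroup.closure (invSet Q))) {p : G}
    (hpM : p ∈ Subgroup.closure (invSet Q)) (hpN : p ∈ Nq Q) (hp : orderOf p = 2) : p ∈ Q := by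
  refine h.mem_of_mem_invSet ?_ hpN
  obtain ⟨g, hgM, hgN⟩ := SetLike.not_le_iff_exists.1 hiso.1
  obtain ⟨z, hz, hz2⟩ := h.exists_invol
  obtain ⟨a, ha⟩ : ∃ a, a = g * z * g⁻¹ := ⟨_, rfl⟩
  have haI : a ∈ invSet Q := ha ▸ conj_mem_invSet (mem_invSet_of_mem hz hz2) g
  have ha2 : orderOf a = 2 := haI.1
  have hodd : Odd (orderOf (p * a)) := by
    refine Nat.not_even_iff_odd.1 fun he => hgN ?_
    obtain ⟨r, hr⟩ := he
    obtain ⟨w, hw⟩ : ∃ w, w = (p * a) ^ r := ⟨_, rfl⟩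
    have hw2 : orderOf w = 2 := by
      have h0 := orderOf_pos (p * a)
      rw [hw, orderOf_pow, hr, Nat.gcd_eq_right ⟨2, by ring⟩, ← two_mul]
      exact Nat.mul_div_cancel _ (by omega)
    have h1 : Commute p w := by
      have h2 := Invol.mul_zpow_comm hp ha2 (r : ℤ)
      rw [zpow_natCast, zpow_neg, zpow_natCast, ← hw, Invol.inv_of_orderOf_two hw2] at h2
      exact h2
    have h3 : Commute a w := by
      have hc : Commute (p * a) w := hw ▸ Commute.self_pow (p * a) r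
      have := h1.mul_left hc
      rwa [← Invol.y_eq hp] at this
    have hwM : w ∈ Subgroup.closure (invSet Q) := hw ▸ pow_mem (mul_mem hpM (subset_closure haI)) r
    have hwN : w ∈ Nq Q := hiso.2.2 p hpM hpN hp w hwM (by rw [h1.symm.eq, mul_inv_cancel_right]; exact hpN)
    -- `w` fixes the point of `a`
    have hwg : g⁻¹ * w * g ∈ Nq Q := by
      refine h.mem_of_commute hz hz2 ?_
      show g⁻¹ * w * g * z = z * (g⁻¹ * w * g)
      have h5 : w * a = a * w := h3.eq.symm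
      calc g⁻¹ * w * g * z = g⁻¹ * (w * a) * g := by rw [ha]; group
        _ = g⁻¹ * (a * w) * g := by rw [h5]
        _ = _ := by rw [ha]; group
    exact inv_mem_iff.1 (hiso.2.2 w hwM hwN hw2 g⁻¹ (inv_mem hgM) (by simpa using hwg))
  obtain ⟨n, hn⟩ := hodd
  have hia : a * (p * a) * a⁻¹ = (p * a)⁻¹ := by
    rw [mul_inv_rev, Invol.inv_of_orderOf_two hp, Invol.inv_of_orderOf_two ha2]
    simp [mul_assoc, Invol.mul_self_of_orderOf_two ha2]
  have h3 : (p * a) ^ (n + 1) * a * ((p * a) ^ (n + 1))⁻¹ = p := by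
    rw [conj_pow_of_inverts hia, show n + 1 + (n + 1) = (2 * n + 1) + 1 by omega, pow_succ, ← hn,
      pow_orderOf_eq_one, one_mul, mul_assoc, Invol.mul_self_of_orderOf_two ha2, mul_one]
  exact h3 ▸ conj_mem_invSet haI _

/-- An odd subgroup normalised by two commuting involutions of `Q` lies in `N(Q)`. -/
theorem Hyp.odd_le (h : Hyp Q) {O : Subgroup G} [O.Normal] (hO : Odd (Nat.card O)) {a b : G} (ha : a ∈ Q)
    (hb : b ∈ Q) (ha2 : orderOf a = 2) (hb2 : orderOf b = 2) (hab : a * b = b * a) (hne : a ≠ b) :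
    O ≤ Nq Q := by
  have hab2 : orderOf (a * b) = 2 := Invol.orderOf_two_iff.2 ⟨by
    rw [mul_assoc, ← mul_assoc b, ← hab, mul_assoc a b b, Invol.mul_self_of_orderOf_two hb2, mul_one,
      Invol.mul_self_of_orderOf_two ha2], fun e => hne ((mul_eq_one_iff_eq_inv.1 e).trans
        (Invol.inv_of_orderOf_two hb2))⟩
  have hcent : ∀ c ∈ Q, orderOf c = 2 → O ⊓ Subgroup.centralizer ({c} : Set G) ≤ Nq Q := fun c hc hc2 y hy =>
    h.mem_of_commute hc hc2 (mem_centralizer_singleton_iff.1 (mem_inf.1 hy).2)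
  have hX : ∀ c ∈ Q, orderOf c = 2 →
      O ⊓ Nq Q ⊓ Subgroup.centralizer ({c} : Set G) = O ⊓ Subgroup.centralizer ({c} : Set G) :=
    fun c hc hc2 => le_antisymm (inf_le_inf_right _ inf_le_left)
      (le_inf (le_inf inf_le_left (hcent c hc hc2)) inf_le_right)
  have hn : ∀ c ∈ Q, ∀ x ∈ O ⊓ Nq Q, c * x * c⁻¹ ∈ O ⊓ Nq Q := fun c hc x hx => Subgroup.mem_inf.2
    ⟨(inferInstance : O.Normal).conj_mem x hx.1 c, mul_mem (mul_mem (le_normalizer hc) hx.2)
      (inv_mem (le_normalizer hc))⟩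
  have h1 := Invol.SmallCent.card_four_fixed (O ⊓ Nq Q) (hO.of_dvd_nat (card_dvd_of_le inf_le_left))
    (Invol.mul_self_of_orderOf_two ha2) (Invol.mul_self_of_orderOf_two hb2) hab (hn a ha) (hn b hb)
  have h2 := Invol.SmallCent.card_four_fixed O hO (Invol.mul_self_of_orderOf_two ha2)
    (Invol.mul_self_of_orderOf_two hb2) hab (fun x hx => (inferInstance : O.Normal).conj_mem x hx a)
    (fun x hx => (inferInstance : O.Normal).conj_mem x hx b)
  rw [hX a ha ha2, hX b hb hb2, hX (a * b) (mul_mem ha hb) hab2, ← h2] at h1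
  have hcard : Nat.card ↥(O ⊓ Nq Q) = Nat.card O := Nat.eq_of_mul_eq_mul_right (pow_pos Nat.card_pos 2) h1
  exact inf_eq_left.1 (Subgroup.eq_of_le_of_card_ge inf_le_left hcard.ge)

theorem exists_sylow_mem_le (h : Hyp Q) {v : G} (hv : v ∈ Nq Q) (hv2 : orderOf v = 2) :
    ∃ T : Sylow 2 G, (T : Subgroup G) ≤ Nq Q ∧ v ∈ (T : Subgroup G) ∧
      ∃ z : G, z ∈ Q ∧ orderOf z = 2 ∧ z ∈ (T : Subgroup G) := by
  haveI : Fact (Nat.Prime 2) := ⟨Nat.prime_two⟩
  obtain ⟨P, z, hPN, hzQ, hz2, hzP, -⟩ := h.exists_central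
  obtain ⟨n, hn⟩ := Invol.exists_conj_mem_sylow (p := 2) (n := 1) (x := (⟨v, hv⟩ : ↥(Nq Q)))
    (by rw [Subgroup.orderOf_mk, hv2, pow_one]) (P.subtype hPN)
  have hn' : (n : G) * v * (n : G)⁻¹ ∈ (P : Subgroup G) := hn
  have hmem : ∀ {x : G}, x ∈ (((n : G)⁻¹ • P : Sylow 2 G) : Subgroup G) ↔ (n : G) * x * (n : G)⁻¹ ∈ (P : Subgroup G) := by
    intro x
    rw [Sylow.coe_subgroup_smul, Subgroup.mem_pointwise_smul_iff_inv_smul_mem]
    simp [MulAut.smul_def]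
  refine ⟨(n : G)⁻¹ • P, fun x hx => ?_, hmem.2 hn', (n : G)⁻¹ * z * n, ?_, ?_, ?_⟩
  · have h1 := hPN (hmem.1 hx)
    have := mul_mem (mul_mem (inv_mem n.2) h1) n.2
    simpa [mul_assoc] using this
  · simpa using mem_Nq_conj (inv_mem n.2) hzQ
  · exact (orderOf_conj_inv _ _).trans hz2
  · rw [hmem]
    have hzP' : z ∈ (P : Subgroup G) := hzP
    simpa [mul_assoc] using hzP'

/-- The fixed-point-free step: `x` fixed modulo `R` by `d` lies in `R`. -/
theorem mem_of_fixed {Pg R : Subgroup G} (hR : ∀ x ∈ Pg, ∀ r ∈ R, x * r * x⁻¹ ∈ R) {d e : G}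
    (he : ∀ r, e * r * e⁻¹ ∈ R → r ∈ R) (hde : ∀ x ∈ Pg, (e * x * e⁻¹)⁻¹ * (x * (d * x * d⁻¹)) ∈ R) :
    ∀ (k : ℕ) (x : G), x ∈ Pg → x⁻¹ * (d * x * d⁻¹) ∈ R → x ^ 2 ^ k ∈ R → x ∈ R := by
  intro k
  induction k with
  | zero => intro x _ _ h; simpa using h
  | succ k ih =>
    intro x hx hfix hk
    have h2 : x ^ 2 ∈ R := by
      refine ih (x ^ 2) (pow_mem hx 2) ?_ (by rwa [← pow_mul, ← pow_succ'])
      have e1 : (x ^ 2)⁻¹ * (d * x ^ 2 * d⁻¹) =
          x⁻¹ * (x⁻¹ * (d * x * d⁻¹)) * x⁻¹⁻¹ * (x⁻¹ * (d * x * d⁻¹)) := by rw [pow_two]; group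
      rw [e1]
      exact mul_mem (hR x⁻¹ (inv_mem hx) _ hfix) hfix
    refine he x ?_
    have h1 := hde x hx
    have e2 : x * (d * x * d⁻¹) = x ^ 2 * (x⁻¹ * (d * x * d⁻¹)) := by rw [pow_two]; group
    have h4 : x * (d * x * d⁻¹) ∈ R := e2 ▸ mul_mem h2 hfix
    have := mul_mem h4 (inv_mem h1)
    simpa [mul_assoc] using this

/-- An involution of `⟨Q^G⟩` fixing a second point does not exist. -/
theorem Hyp.no_two_point (h : Hyp Q) (hiso : Isolated (Nq Q) (Subgroup.closure (invSet Q))) {v g : G}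
    (hv2 : orderOf v = 2) (hvK : v ∈ Subgroup.closure (invSet Q) ⊔ Q) (hvN : v ∈ Nq Q)
    (hg : g ∈ Subgroup.closure (invSet Q)) (hgN : g ∉ Nq Q) (hvg : g⁻¹ * v * g ∈ Nq Q) : False := by
  classical
  haveI : Fact (Nat.Prime 2) := ⟨Nat.prime_two⟩
  -- it suffices that `v ∈ Q`
  suffices hvQ : v ∈ Q from hgN (inv_mem_iff.1 (h.moves v hvQ hv2 g⁻¹ (by simpa using hvg)))
  set M := Subgroup.closure (invSet Q) with hM
  haveI hMn : M.Normal := closure_invSet_normal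
  obtain ⟨T, hTN, hvT, z, hzQ, hz2, hzT⟩ := exists_sylow_mem_le h hvN hv2
  have hzM : z ∈ M := subset_closure (mem_invSet_of_mem hzQ hz2)
  -- the core of `M`
  haveI hOn' : (Cfsg.pPrimeCore 2 ↥M).Normal := Grp.pPrimeCore_isNormal
  set O := (Cfsg.pPrimeCore 2 ↥M).map M.subtype with hO
  have hOM : O ≤ M := map_subtype_le _
  have hOodd : Odd (Nat.card O) := by
    rw [hO, Subgroup.card_map_of_injective M.subtype_injective]
    exact Nat.not_even_iff_odd.1 fun he => Grp.pPrimeCore_not_dvd (p := 2) (G := ↥M) (even_iff_two_dvd.1 he)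
  haveI hOn : O.Normal := by
    refine ⟨fun x hx c => ?_⟩
    obtain ⟨y, hy, rfl⟩ := hx
    refine ⟨MulAut.conjNormal c y, ?_, by simp⟩
    refine Grp.le_pPrimeCore (Subgroup.Normal.map hOn' (MulAut.conjNormal c : MulAut ↥M).toMonoidHom
      (MulAut.conjNormal c : MulAut ↥M).surjective) ?_ ⟨y, hy, rfl⟩
    rw [Subgroup.card_map_of_injective (f := (MulAut.conjNormal c : MulAut ↥M).toMonoidHom)
      (MulAut.conjNormal c : MulAut ↥M).injective]
    exact Grp.pPrimeCore_coprime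
  have hTO : ∀ x ∈ (T : Subgroup G), x ∈ O → x = 1 := by
    intro x hxT hxO
    obtain ⟨k, hk⟩ := T.isPGroup' ⟨x, hxT⟩
    have hk' : x ^ 2 ^ k = 1 := congrArg Subtype.val hk
    have h1 : x ^ Nat.card O = 1 := congrArg Subtype.val (pow_card_eq_one' (x := (⟨x, hxO⟩ : ↥O)))
    have := Nat.dvd_gcd (orderOf_dvd_of_pow_eq_one hk') (orderOf_dvd_of_pow_eq_one h1)
    rw [Nat.Coprime.gcd_eq_one (Nat.Coprime.pow_left k (Nat.coprime_two_left.2 hOodd)), Nat.dvd_one,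
      orderOf_eq_one_iff] at this
    exact this
  have hNQ : Nq Q ≤ Subgroup.normalizer (Q : Set G) := le_rfl
  have hTM : ¬ 2 ∣ ((T : Subgroup G) ⊓ M).relIndex M := by
    rw [Subgroup.inf_relIndex_right]
    exact Grp.sylow_inf_normal_relIndex T M
  have hTQ : ¬ 2 ∣ ((T : Subgroup G) ⊓ Q).relIndex Q := by
    rw [Subgroup.inf_relIndex_right]
    have h1 := Grp.sylow_inf_normal_relIndex (T.subtype hTN) (Q.subgroupOf (Nq Q))
    have h2 := Subgroup.relIndex_map_map_of_injective ((T.subtype hTN : Sylow 2 ↥(Nq Q)) : Subgroup ↥(Nq Q))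
      (Q.subgroupOf (Nq Q)) (f := (Nq Q).subtype) (Nq Q).subtype_injective
    rw [Sylow.coe_subtype, Subgroup.subgroupOf_map_subtype, Subgroup.subgroupOf_map_subtype,
      inf_of_le_left hTN, inf_of_le_left (le_normalizer : Q ≤ Nq Q)] at h2
    rw [Sylow.coe_subtype, ← h2] at h1
    exact h1
  -- `v = p r`
  obtain ⟨m, hm, q, hq, hmq⟩ : ∃ m ∈ M, ∃ q ∈ Q, m * q = v := Subgroup.mem_sup_of_normal_left.1 hvK
  have hmN : m ∈ M ⊓ Nq Q := Subgroup.mem_inf.2 ⟨hm, by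
    rw [show m = v * q⁻¹ by rw [← hmq, mul_inv_cancel_right]]
    exact mul_mem hvN (inv_mem (le_normalizer hq))⟩
  have hTMN : ¬ 2 ∣ ((T : Subgroup G) ⊓ (M ⊓ Nq Q)).relIndex (M ⊓ Nq Q) := fun hd => hTM (by
    have e : (T : Subgroup G) ⊓ (M ⊓ Nq Q) = (T : Subgroup G) ⊓ M := by
      rw [← inf_assoc, inf_of_le_left (inf_le_left.trans hTN)]
    rw [e] at hd
    exact hd.trans ⟨_, (Subgroup.relIndex_mul_relIndex _ _ _ (le_inf inf_le_right (inf_le_left.trans hTN))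
      inf_le_left).symm⟩)
  obtain ⟨p, r, hpT, hpMN, hrT, hrQ, hvpr⟩ := split_of_sylow T.isPGroup' (inf_le_right.trans hNQ)
    (hTN.trans hNQ) hTMN hvT (hmq ▸ mul_mem (mem_sup_left hmN) (mem_sup_right hq))
  -- it suffices that `p ∈ (Q ∩ M) O`
  suffices hpR : p ∈ (Q ⊓ M) ⊔ O by
    have hvQO : v ∈ Q ⊔ O := hvpr ▸ mul_mem ((sup_le_sup_right inf_le_left O) hpR) (mem_sup_left hrQ)
    obtain ⟨a, b, haT, haQ, hbT, hbO, hab⟩ := split_of_sylow T.isPGroup'
      (fun x _ => by rw [normalizer_eq_top]; exact mem_top x)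
      (fun x _ => by rw [normalizer_eq_top]; exact mem_top x) hTQ hvT hvQO
    rw [hTO b hbT hbO, mul_one] at hab
    exact hab ▸ haQ
  set π := QuotientGroup.mk' (Cfsg.pPrimeCore 2 ↥M) with hπ
  have hMse : Cfsg.IsStronglyPEmbedded 2 ((Nq Q).subgroupOf M) := by
    obtain ⟨hne', hev, hodd⟩ := isolated_iff.1 hiso
    exact Invol.isStronglyPEmbedded_iff.2 ⟨even_iff_two_dvd.1 hev, hne', fun c hc hd =>
      Nat.not_even_iff_odd.2 (hodd c hc) (even_iff_two_dvd.2 hd)⟩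
  have hSgen : Subgroup.closure ({x : ↥M | (x : G) ∈ invSet Q}) = ⊤ :=
    Subgroup.closure_closure_coe_preimage
  have hgenB : Subgroup.closure (π '' {x : ↥M | (x : G) ∈ invSet Q}) = ⊤ := by
    rw [← MonoidHom.map_closure, hSgen, ← MonoidHom.range_eq_map]
    exact MonoidHom.range_eq_top.2 (QuotientGroup.mk'_surjective _)
  have hI2 : ∀ x ∈ {x : ↥M | (x : G) ∈ invSet Q}, orderOf x = 2 := fun x hx =>
    (orderOf_coe x) ▸ (hx.1 : orderOf (x : G) = 2)
  have hpec : Cfsg.pElementClosure 2 (⊤ : Subgroup (↥M ⧸ Cfsg.pPrimeCore 2 ↥M)) = ⊤ :=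
    pElementClosure_eq_top hgenB (by
      rintro _ ⟨x, hx, rfl⟩
      rw [← map_mul, Invol.mul_self_of_orderOf_two (hI2 x hx), map_one])
  let iso : ↥(Cfsg.pElementClosure 2 (⊤ : Subgroup (↥M ⧸ Cfsg.pPrimeCore 2 ↥M))) ≃*
      ↥M ⧸ Cfsg.pPrimeCore 2 ↥M := (MulEquiv.subgroupCongr hpec).trans Subgroup.topEquiv
  rcases Cfsg.Agent.S2798.result _ hMse with h1 | h1
  · -- `M / O(M)` of order two
    have hz2' : orderOf (⟨z, hzM⟩ : ↥M) = 2 := by rw [Subgroup.orderOf_mk, hz2]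
    have hcyc : Subgroup.zpowers (π ⟨z, hzM⟩) = ⊤ := by
      refine top_le_iff.1 (hgenB.ge.trans ((Subgroup.closure_le _).2 ?_))
      rintro _ ⟨x, hx, rfl⟩
      rw [hπ, eq_mod_core h1 (hI2 x hx) hz2']
      exact mem_zpowers _
    obtain ⟨k, hk⟩ := mem_zpowers_iff.1 (hcyc.ge (mem_top (π ⟨p, hpMN.1⟩)))
    have hk' : (z ^ k)⁻¹ * p ∈ O := by
      rw [← map_zpow] at hk
      have := (QuotientGroup.eq).1 hk
      exact ⟨_, this, by simp⟩
    rw [← mul_inv_cancel_left (z ^ k) p]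
    exact mul_mem (mem_sup_left ⟨zpow_mem hzQ k, zpow_mem hzM k⟩) (mem_sup_right hk')
  · obtain ⟨hdata, hmax, hindex⟩ := data_of_bender (Q := ↥M ⧸ Cfsg.pPrimeCore 2 ↥M) (by
      rcases h1 with ⟨F, i1, i2, hc, h4, ⟨e'⟩⟩ | ⟨F, i1, i2, q', hq', h4, hF, ⟨e'⟩⟩ | h1
      · exact Or.inl ⟨F, i1, i2, hc, h4, ⟨iso.symm.trans e'⟩⟩
      · exact Or.inr (Or.inl ⟨F, i1, i2, q', hq', h4, hF, ⟨iso.symm.trans e'⟩⟩)
      · exact Or.inr (Or.inr (CoreConsumers.isoSuzuki_congr h1 iso.symm)))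
    -- the Sylow subgroup
    have hPp : IsPGroup 2 ↥((T : Subgroup G).subgroupOf M) := T.isPGroup'.comap_subtype
    set S₀ : Sylow 2 ↥M := hPp.toSylow (by rwa [Subgroup.inf_relIndex_right] at hTM) with hS₀
    set S : Sylow 2 (↥M ⧸ Cfsg.pPrimeCore 2 ↥M) := S₀.mapSurjective (QuotientGroup.mk'_surjective _) with hS
    obtain ⟨W, d', e', hW2, hcomm, ⟨a, ha, b, hb, ha1, hb1, hab⟩, hWS, hd', he', hde⟩ := hdata S
    set Pg := ((T : Subgroup G) ⊓ M) ⊔ O with hPg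
    have hPgM : Pg ≤ M := sup_le inf_le_right hOM
    have hmemS : ∀ x : ↥M, π x ∈ (S : Subgroup (↥M ⧸ Cfsg.pPrimeCore 2 ↥M)) ↔ (x : G) ∈ Pg := by
      intro x
      rw [hS, Sylow.coe_mapSurjective, hPg, Subgroup.mem_sup_of_normal_right]
      constructor
      · rintro ⟨y, hy, hyx⟩
        exact ⟨y, ⟨hy, y.2⟩, (y : G)⁻¹ * x, ⟨_, (QuotientGroup.eq).1 hyx, by simp⟩, by group⟩
      · rintro ⟨y, ⟨hyT, hyM⟩, o, ⟨o', ho', rfl⟩, hyo⟩
        refine ⟨⟨y, hyM⟩, hyT, ?_⟩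
        rw [show x = ⟨y, hyM⟩ * o' from Subtype.ext hyo.symm, map_mul,
          show π o' = 1 from (QuotientGroup.eq_one_iff _).2 ho', mul_one]
    -- lifts of the elements of `W`
    have hliftW : ∀ x : ↥M, π x ∈ W → ∃ y o : G, y ∈ (T : Subgroup G) ∧ y ∈ M ∧ o ∈ O ∧ y * o = x ∧
        (y = 1 ∨ orderOf y = 2 ∧ y ∈ Q) := by
      intro x hx
      obtain ⟨y, ⟨hyT, hyM⟩, o, ho, hyo⟩ := Subgroup.mem_sup_of_normal_right.1 ((hmemS x).1 (hWS hx))
      refine ⟨y, o, hyT, hyM, ho, hyo, ?_⟩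
      have hyy : y * y = 1 := by
        refine hTO _ (mul_mem hyT hyT) ?_
        have hyx : π ⟨y, hyM⟩ = π x := by
          refine (QuotientGroup.eq).2 ?_
          obtain ⟨o', ho', hoe⟩ := ho
          rw [show (⟨y, hyM⟩ : ↥M)⁻¹ * x = o' from Subtype.ext (by
            show y⁻¹ * (x : G) = o'
            rw [← hyo, inv_mul_cancel_left]; exact hoe.symm)]
          exact ho'
        have := hW2 _ hx
        rw [← hyx, ← map_mul] at this
        exact ⟨_, (QuotientGroup.eq_one_iff _).1 this, rfl⟩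
      refine (eq_or_ne y 1).imp_right fun hy1 => ?_
      have hy2 := Invol.orderOf_two_iff.2 ⟨hyy, hy1⟩
      exact ⟨hy2, h.mem_of_isolated hiso hyM (hTN hyT) hy2⟩
    have hON : O ≤ Nq Q := by
      obtain ⟨xa, rfl⟩ := QuotientGroup.mk'_surjective _ a
      obtain ⟨xb, rfl⟩ := QuotientGroup.mk'_surjective _ b
      obtain ⟨ya, oa, hyaT, hyaM, hoa, hyoa, hya⟩ := hliftW xa ha
      obtain ⟨yb, ob, hybT, hybM, hob, hyob, hyb⟩ := hliftW xb hb
      have himg : ∀ (x : ↥M) (y o : G) (hy : y ∈ M), o ∈ O → y * o = x → π x = π ⟨y, hy⟩ := by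
        rintro x y o hy ⟨o', ho', rfl⟩ hyo
        rw [show x = ⟨y, hy⟩ * o' from Subtype.ext hyo.symm, map_mul,
          show π o' = 1 from (QuotientGroup.eq_one_iff _).2 ho', mul_one]
      rcases hya with rfl | ⟨hya2, hyaQ⟩
      · exact absurd (himg xa 1 oa hyaM hoa hyoa) (fun e => ha1 (e.trans (map_one π)))
      rcases hyb with rfl | ⟨hyb2, hybQ⟩
      · exact absurd (himg xb 1 ob hybM hob hyob) (fun e => hb1 (e.trans (map_one π)))
      have hne : ya ≠ yb := fun e => hab (by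
        show π xa = π xb
        rw [himg xa ya oa hyaM hoa hyoa, himg xb yb ob hybM hob hyob]
        congr 1
        exact Subtype.ext e)
      -- commuting
      have hc : ya * yb = yb * ya := by
        have hxc : ⁅(⟨ya, hyaM⟩ : ↥M), ⟨yb, hybM⟩⁆ ∈ Cfsg.pPrimeCore 2 ↥M := by
          rw [← QuotientGroup.eq_one_iff]
          show π _ = 1
          rw [map_commutatorElement, ← himg xa ya oa hyaM hoa hyoa, ← himg xb yb ob hybM hob hyob]
          refine commutatorElement_eq_one_iff_mul_comm.2 ?_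
          have := hW2 _ (W.mul_mem ha hb)
          rw [mul_eq_one_iff_eq_inv, mul_inv_rev, inv_eq_of_mul_eq_one_left (hW2 _ ha),
            inv_eq_of_mul_eq_one_left (hW2 _ hb)] at this
          exact this
        have h2 := hTO _ ?_ ⟨_, hxc, rfl⟩
        · exact commutatorElement_eq_one_iff_mul_comm.1 (by simpa [commutatorElement_def] using h2)
        · show ((⁅(⟨ya, hyaM⟩ : ↥M), ⟨yb, hybM⟩⁆ : ↥M) : G) ∈ (T : Subgroup G)
          simpa [commutatorElement_def] using mul_mem (mul_mem (mul_mem hyaT hybT) (inv_mem hyaT)) (inv_mem hybT)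
      exact h.odd_le hOodd hyaQ hybQ hya2 hyb2 hc hne
    set R := Pg ⊓ ((Q ⊓ M) ⊔ O) with hR
    have hPgN : Pg ≤ Nq Q := sup_le (inf_le_left.trans hTN) hON
    -- `N ∩ M` is the preimage of the Borel subgroup
    set H := (Nq Q).subgroupOf M with hH
    have hker : π.ker ≤ H := by
      rw [hπ, QuotientGroup.ker_mk']
      exact fun x hx => hON ⟨x, hx, rfl⟩
    have hnorm_le : normalizer ((S : Subgroup (↥M ⧸ Cfsg.pPrimeCore 2 ↥M)) : Set _) ≤ H.map π := by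
      intro y hy
      obtain ⟨n, rfl⟩ := QuotientGroup.mk'_surjective _ y
      refine ⟨n, ?_, rfl⟩
      refine h.moves z hzQ hz2 n ?_
      have h2 := (mem_normalizer_iff.1 hy (π ⟨z, hzM⟩)).1
        ((hmemS _).2 (mem_sup_left ⟨hzT, hzM⟩))
      rw [← map_mul, ← map_inv, ← map_mul] at h2
      exact hPgN ((hmemS _).1 h2)
    have hHne : H.map π ≠ ⊤ := fun e => hiso.1 (subgroupOf_eq_top.1 (by
      rw [← hH, ← Subgroup.comap_map_eq_self hker, e, Subgroup.comap_top]))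
    have hHeq := hmax S _ hHne hnorm_le
    have hnorm : ∀ n : G, n ∈ M → n ∈ Nq Q → ∀ x ∈ Pg, n * x * n⁻¹ ∈ Pg := by
      intro n hnM hnN x hx
      have h2 : π ⟨n, hnM⟩ ∈ normalizer ((S : Subgroup (↥M ⧸ Cfsg.pPrimeCore 2 ↥M)) : Set _) :=
        hHeq ▸ ⟨⟨n, hnM⟩, hnN, rfl⟩
      have h3 := (mem_normalizer_iff.1 h2 (π ⟨x, hPgM hx⟩)).1 ((hmemS _).2 hx)
      rw [← map_mul, ← map_inv, ← map_mul] at h3
      exact (hmemS _).1 h3
    have hlift : ∀ c : ↥M, (∀ x ∈ (S : Subgroup (↥M ⧸ Cfsg.pPrimeCore 2 ↥M)),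
        π c * x * (π c)⁻¹ ∈ (S : Subgroup (↥M ⧸ Cfsg.pPrimeCore 2 ↥M))) → (c : G) ∈ Nq Q := by
      intro c hc
      refine h.moves z hzQ hz2 c ?_
      have h2 := hc _ ((hmemS ⟨z, hzM⟩).2 (mem_sup_left ⟨hzT, hzM⟩))
      rw [← map_mul, ← map_inv, ← map_mul] at h2
      exact hPgN ((hmemS _).1 h2)
    obtain ⟨d, rfl⟩ := QuotientGroup.mk'_surjective _ d'
    obtain ⟨e, rfl⟩ := QuotientGroup.mk'_surjective _ e'
    have hdN : (d : G) ∈ Nq Q := hlift d hd'
    have heN : (e : G) ∈ Nq Q := hlift e he'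
    -- `R` is normalised by the elements of `N` normalising `Pg`
    have hRn : ∀ n : G, n ∈ Nq Q → (∀ x ∈ Pg, n * x * n⁻¹ ∈ Pg) → ∀ x ∈ R, n * x * n⁻¹ ∈ R := by
      intro n hn hnP x hx
      refine ⟨hnP x hx.1, ?_⟩
      obtain ⟨a₁, ha₁, o, ho, rfl⟩ := Subgroup.mem_sup_of_normal_right.1 hx.2
      rw [← conj_mul]
      exact mul_mem (mem_sup_left ⟨mem_Nq_conj hn ha₁.1, hMn.conj_mem _ ha₁.2 n⟩)
        (mem_sup_right (hOn.conj_mem o ho n))
    have hRP : ∀ x ∈ Pg, ∀ y ∈ R, x * y * x⁻¹ ∈ R := fun x hx =>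
      hRn x (hPgN hx) (fun y hy => mul_mem (mul_mem hx hy) (inv_mem hx))
    -- the images in `W` lie in `R`
    have hWR : ∀ x : ↥M, π x ∈ W → (x : G) ∈ R := by
      intro x hx
      refine ⟨(hmemS x).1 (hWS hx), ?_⟩
      obtain ⟨y, o, hyT, hyM, ho, hyo, hy⟩ := hliftW x hx
      rw [← hyo]
      refine mul_mem ?_ (mem_sup_right ho)
      rcases hy with rfl | ⟨-, hyQ⟩
      · exact one_mem _
      · exact mem_sup_left ⟨hyQ, hyM⟩
    have hcR : ∀ x ∈ Pg, ∀ y ∈ Pg, ⁅x, y⁆ ∈ R := by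
      intro x hx y hy
      have h2 := hcomm _ ((hmemS ⟨x, hPgM hx⟩).2 hx) _ ((hmemS ⟨y, hPgM hy⟩).2 hy)
      rw [← map_commutatorElement] at h2
      simpa [commutatorElement_def] using hWR _ h2
    have hdeR : ∀ x ∈ Pg, ((e : G) * x * (e : G)⁻¹)⁻¹ * (x * ((d : G) * x * (d : G)⁻¹)) ∈ R := by
      intro x hx
      have h2 := hde _ ((hmemS ⟨x, hPgM hx⟩).2 hx)
      rw [← map_inv, ← map_mul, ← map_mul, ← map_inv, ← map_inv, ← map_mul, ← map_mul, ← map_mul,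
        ← map_mul] at h2
      simpa using hWR _ h2
    -- `v` acts trivially modulo `R`
    have hvP : ∀ x ∈ Pg, v * x * v⁻¹ ∈ Pg := by
      intro x hx
      obtain ⟨y, hy, o, ho, rfl⟩ := Subgroup.mem_sup_of_normal_right.1 hx
      rw [← conj_mul]
      exact mul_mem (mem_sup_left (Subgroup.mem_inf.2 ⟨mul_mem (mul_mem hvT hy.1) (inv_mem hvT), hMn.conj_mem y hy.2 v⟩))
        (mem_sup_right (hOn.conj_mem o ho v))
    have hpPg : p ∈ Pg := mem_sup_left ⟨hpT, hpMN.1⟩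
    have hrR : ∀ x ∈ Pg, r * x * r⁻¹ * x⁻¹ ∈ R := by
      intro x hx
      obtain ⟨y, hy, o, ho, rfl⟩ := Subgroup.mem_sup_of_normal_right.1 hx
      have h2 : r * y * r⁻¹ * y⁻¹ ∈ (T : Subgroup G) ⊓ M := Subgroup.mem_inf.2
        ⟨mul_mem (mul_mem (mul_mem hrT hy.1) (inv_mem hrT)) (inv_mem hy.1),
          mul_mem (hMn.conj_mem y hy.2 r) (inv_mem hy.2)⟩
      have h3 : r * y * r⁻¹ * y⁻¹ ∈ Q ⊓ M := by
        refine ⟨?_, h2.2⟩
        rw [show r * y * r⁻¹ * y⁻¹ = r * (y * r⁻¹ * y⁻¹) by group]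
        exact mul_mem hrQ (mem_Nq_conj (hTN hy.1) (inv_mem hrQ))
      have h4 : r * o * r⁻¹ * o⁻¹ ∈ O := mul_mem (hOn.conj_mem o ho r) (inv_mem ho)
      rw [show r * (y * o) * r⁻¹ * (y * o)⁻¹ = r * y * r⁻¹ * y⁻¹ * (y * (r * o * r⁻¹ * o⁻¹) * y⁻¹) by group]
      have h5 := hOn.conj_mem _ h4 y
      exact ⟨mul_mem (mem_sup_left h2) (mem_sup_right h5), mul_mem (mem_sup_left h3) (mem_sup_right h5)⟩
    have hvR : ∀ x ∈ Pg, x⁻¹ * (v * x * v⁻¹) ∈ R := by
      intro x hx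
      have hy : x⁻¹ * (r * x * r⁻¹) ∈ R := by
        rw [show x⁻¹ * (r * x * r⁻¹) = x⁻¹ * (r * x * r⁻¹ * x⁻¹) * x⁻¹⁻¹ by group]
        exact hRP _ (inv_mem hx) _ (hrR x hx)
      have hrx : r * x * r⁻¹ ∈ Pg := by
        rw [show r * x * r⁻¹ = x * (x⁻¹ * (r * x * r⁻¹)) by group]
        exact mul_mem hx hy.1
      have h2 := hcR _ (inv_mem hrx) p hpPg
      rw [show x⁻¹ * (v * x * v⁻¹) =
        x⁻¹ * (r * x * r⁻¹) * ⁅(r * x * r⁻¹)⁻¹, p⁆ by rw [hvpr, commutatorElement_def]; group]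
      exact mul_mem hy h2
    -- the two-point stabiliser
    set D := M ⊓ Nq Q ⊓ (Nq Q).map (MulAut.conj g).toMonoidHom with hD
    have hDodd : Odd (Nat.card D) := Nat.not_even_iff_odd.1 fun he => by
      obtain ⟨t, htD, ht2⟩ := Invol.exists_orderOf_two_mem he
      obtain ⟨htMN, htg⟩ := Subgroup.mem_inf.1 htD
      obtain ⟨htM, htN⟩ := Subgroup.mem_inf.1 htMN
      rw [Invol.mem_map_conj] at htg
      exact hgN (inv_mem_iff.1 (hiso.2.2 t htM htN ht2 g⁻¹ (inv_mem hg) (by simpa using htg)))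
    obtain ⟨p₁, hp₁, d₀, hd₀, hpd⟩ : ∃ p₁ ∈ (T : Subgroup G) ⊓ M, ∃ d₀ ∈ D, p₁ * d₀ = (d : G) := by
      -- `T ∩ M` is transitive on the other points
      have hcard : H.index = Nat.card ↥((T : Subgroup G).subgroupOf M) + 1 := by
        rw [← Subgroup.index_map_eq H (QuotientGroup.mk'_surjective _) hker]
        have h2 := hindex S
        rw [← hHeq] at h2
        rw [h2]
        congr 1
        rw [hS, Sylow.coe_mapSurjective]
        have hinj : Function.Injective (π.comp ((T : Subgroup G).subgroupOf M).subtype) := by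
          refine (injective_iff_map_eq_one _).2 fun y hy => ?_
          have h3 : ((y : ↥M) : G) ∈ O := ⟨_, (QuotientGroup.eq_one_iff _).1 hy, rfl⟩
          exact Subtype.ext (Subtype.ext (hTO _ y.2 h3))
        have := Nat.card_congr (MonoidHom.ofInjective hinj).toEquiv
        rw [MonoidHom.range_comp, Subgroup.range_subtype] at this
        exact this.symm
      let g' : ↥M := ⟨g, hg⟩
      let f : ↥((T : Subgroup G).subgroupOf M) → {c : ↥M ⧸ H // c ≠ QuotientGroup.mk 1} := fun y =>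
        ⟨QuotientGroup.mk ((y : ↥M) * g'), fun he => hgN (by
          have h2 := (QuotientGroup.eq).1 he
          rw [mul_one] at h2
          have h3 : (((y : ↥M) : G) * g)⁻¹ ∈ Nq Q := h2
          have := mul_mem (inv_mem (hTN y.2)) (inv_mem_iff.1 h3)
          simpa using this)⟩
      have hf : Function.Injective f := by
        intro y y' he
        have h2 := (QuotientGroup.eq).1 (congrArg Subtype.val he)
        have h3 : (((y : ↥M) : G) * g)⁻¹ * (((y' : ↥M) : G) * g) ∈ Nq Q := h2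
        by_contra hne
        set x := y⁻¹ * y' with hx
        have hx1 : x ≠ 1 := fun e => hne (inv_mul_eq_one.1 e)
        obtain ⟨k, hk⟩ := IsPGroup.iff_orderOf.1 hPp x
        have hk0 : k ≠ 0 := fun e => hx1 (orderOf_eq_one_iff.1 (by rw [hk, e, pow_zero]))
        set t := x ^ 2 ^ (k - 1) with ht
        have ht2 : orderOf t = 2 := by
          rw [ht, orderOf_pow, hk, Nat.gcd_eq_right (pow_dvd_pow 2 (Nat.sub_le k 1)), Nat.pow_div (Nat.sub_le k 1)
            two_pos, show k - (k - 1) = 1 by omega, pow_one]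
        have htg : g⁻¹ * ((t : ↥M) : G) * g ∈ Nq Q := by
          have h4 : g⁻¹ * ((x : ↥M) : G) * g ∈ Nq Q := by
            simpa [hx, mul_assoc] using h3
          rw [ht, SubmonoidClass.coe_pow, SubmonoidClass.coe_pow]
          have := pow_mem h4 (2 ^ (k - 1))
          rwa [show g⁻¹ * ((x : ↥M) : G) * g = g⁻¹ * ((x : ↥M) : G) * g⁻¹⁻¹ by rw [inv_inv], conj_pow, inv_inv] at this
        exact hgN (inv_mem_iff.1 (hiso.2.2 _ (t : ↥M).2 (hTN t.2) (by rw [orderOf_coe, orderOf_coe, ht2]) g⁻¹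
          (inv_mem hg) (by simpa using htg)))
      have hbij : Function.Bijective f := by
        haveI : Fintype ↥((T : Subgroup G).subgroupOf M) := Fintype.ofFinite _
        haveI : Fintype {c : ↥M ⧸ H // c ≠ QuotientGroup.mk 1} := Fintype.ofFinite _
        haveI : Fintype (↥M ⧸ H) := Fintype.ofFinite _
        refine (Fintype.bijective_iff_injective_and_card f).2 ⟨hf, ?_⟩
        rw [← Nat.card_eq_fintype_card, Fintype.card_subtype_compl, Fintype.card_subtype_eq,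
          ← Nat.card_eq_fintype_card, ← Subgroup.index_eq_card, hcard]
        omega
      obtain ⟨y, hy⟩ := hbij.2 ⟨QuotientGroup.mk (d * g'), fun he => hgN (by
        have h2 := (QuotientGroup.eq).1 he
        rw [mul_one] at h2
        have h3 : ((d : G) * g)⁻¹ ∈ Nq Q := h2
        have := mul_mem (inv_mem hdN) (inv_mem_iff.1 h3)
        simpa using this)⟩
      have h2 := (QuotientGroup.eq).1 (congrArg Subtype.val hy)
      have h3 : (((y : ↥M) : G) * g)⁻¹ * ((d : G) * g) ∈ Nq Q := h2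
      refine ⟨((y : ↥M) : G), ⟨y.2, (y : ↥M).2⟩, ((y : ↥M) : G)⁻¹ * d,
        Subgroup.mem_inf.2 ⟨Subgroup.mem_inf.2 ⟨mul_mem (inv_mem (y : ↥M).2) d.2, mul_mem (inv_mem (hTN y.2)) hdN⟩, ?_⟩, by group⟩
      rw [Invol.mem_map_conj]
      simpa [mul_assoc] using h3
    have hDP : ∀ c ∈ D, ∀ x ∈ Pg, c * x * c⁻¹ ∈ Pg := fun c hc => hnorm c hc.1.1 hc.1.2
    have hDR : ∀ c ∈ D, ∀ x ∈ R, c * x * c⁻¹ ∈ R := fun c hc => hRn c hc.1.2 (hDP c hc)
    let Same : G → G → Prop := fun a b => ∀ x ∈ Pg, (a * x * a⁻¹)⁻¹ * (b * x * b⁻¹) ∈ R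
    have htrans : ∀ {a b c : G}, Same a b → Same b c → Same a c := fun {a b c} h1 h2 x hx => by
      have := mul_mem (h1 x hx) (h2 x hx)
      rw [show (a * x * a⁻¹)⁻¹ * (c * x * c⁻¹) =
        (a * x * a⁻¹)⁻¹ * (b * x * b⁻¹) * ((b * x * b⁻¹)⁻¹ * (c * x * c⁻¹)) by group]
      exact this
    have hdd₀ : Same d₀ (d : G) := by
      intro x hx
      rw [← hpd, show (d₀ * x * d₀⁻¹)⁻¹ * (p₁ * d₀ * x * (p₁ * d₀)⁻¹) =
        ⁅(d₀ * x * d₀⁻¹)⁻¹, p₁⁆ by rw [commutatorElement_def]; group]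
      exact hcR _ (inv_mem (hDP _ hd₀ x hx)) p₁ (mem_sup_left hp₁)
    -- the elements of `D` acting as `d₀`
    let C : Subgroup G :=
      { carrier := {c | c ∈ D ∧ ∀ x ∈ Pg, x⁻¹ * (c * x * c⁻¹) ∈ R}
        one_mem' := ⟨one_mem _, fun x _ => by simp⟩
        mul_mem' := by
          rintro a b ⟨ha, ha'⟩ ⟨hb, hb'⟩
          refine ⟨mul_mem ha hb, fun x hx => ?_⟩
          rw [show x⁻¹ * (a * b * x * (a * b)⁻¹) =
            x⁻¹ * (b * x * b⁻¹) * ((b * x * b⁻¹)⁻¹ * (a * (b * x * b⁻¹) * a⁻¹)) by group]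
          exact mul_mem (hb' x hx) (ha' _ (hDP b hb x hx))
        inv_mem' := by
          rintro a ⟨ha, ha'⟩
          refine ⟨inv_mem ha, fun x hx => ?_⟩
          have := inv_mem (ha' _ (hDP _ (inv_mem ha) x hx))
          simpa [mul_assoc] using this }
    have hCD : C ≤ D := fun c hc => hc.1
    let S₁ := {c : G // c ∈ D ∧ Same d₀ c}
    have hsame : ∀ c, c ∈ C ↔ d₀ * c ∈ D ∧ Same d₀ (d₀ * c) := by
      intro c
      constructor
      · rintro ⟨hc, hc'⟩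
        refine ⟨mul_mem hd₀ hc, fun x hx => ?_⟩
        rw [show (d₀ * x * d₀⁻¹)⁻¹ * (d₀ * c * x * (d₀ * c)⁻¹) = d₀ * (x⁻¹ * (c * x * c⁻¹)) * d₀⁻¹ by group]
        exact hDR _ hd₀ _ (hc' x hx)
      · rintro ⟨hc, hc'⟩
        refine ⟨(D.mul_mem_cancel_left hd₀).1 hc, fun x hx => ?_⟩
        have := hDR _ (inv_mem hd₀) _ (hc' x hx)
        simpa [mul_assoc] using this
    have hS₁ : Odd (Nat.card S₁) := by
      have eqv : ↥C ≃ S₁ :=
        { toFun := fun c => ⟨d₀ * c, (hsame c).1 c.2⟩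
          invFun := fun c => ⟨d₀⁻¹ * c.1, (hsame _).2 (by simpa using c.2)⟩
          left_inv := fun c => Subtype.ext (by simp)
          right_inv := fun c => Subtype.ext (by simp) }
      rw [← Nat.card_congr eqv]
      exact hDodd.of_dvd_nat (card_dvd_of_le hCD)
    have hvinv : v⁻¹ = v := Invol.inv_of_orderOf_two hv2
    have hvD : ∀ c ∈ D, v * c * v⁻¹ ∈ D := fun c hc => by
      refine Subgroup.mem_inf.2 ⟨Subgroup.mem_inf.2 ⟨hMn.conj_mem c hc.1.1 v,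
        mul_mem (mul_mem hvN hc.1.2) (inv_mem hvN)⟩, ?_⟩
      have h2 : g⁻¹ * c * g ∈ Nq Q := Invol.mem_map_conj.1 hc.2
      rw [Invol.mem_map_conj]
      have := mul_mem (mul_mem hvg h2) (inv_mem hvg)
      simpa [mul_assoc] using this
    have hvS : ∀ c : S₁, v * c.1 * v⁻¹ ∈ D ∧ Same d₀ (v * c.1 * v⁻¹) := by
      rintro ⟨c, hc, hc'⟩
      refine ⟨hvD c hc, fun x hx => ?_⟩
      have hx' : v * x * v⁻¹ ∈ Pg := hvP x hx
      set y := v * x * v⁻¹ with hy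
      have h1 : (d₀ * x * d₀⁻¹)⁻¹ * (d₀ * y * d₀⁻¹) ∈ R := by
        rw [show (d₀ * x * d₀⁻¹)⁻¹ * (d₀ * y * d₀⁻¹) = d₀ * (x⁻¹ * y) * d₀⁻¹ by group]
        exact hDR _ hd₀ _ (hy ▸ hvR x hx)
      have h3 := hvR _ (hDP c hc y hx')
      rw [show v * c * v⁻¹ * x * (v * c * v⁻¹)⁻¹ = v * (c * y * c⁻¹) * v⁻¹ by
        rw [hy]; simp only [mul_inv_rev, inv_inv, hvinv, mul_assoc]]
      have h4 := mul_mem (mul_mem h1 (hc' y hx')) h3
      rw [show (d₀ * x * d₀⁻¹)⁻¹ * (v * (c * y * c⁻¹) * v⁻¹) = (d₀ * x * d₀⁻¹)⁻¹ * (d₀ * y * d₀⁻¹) *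
        ((d₀ * y * d₀⁻¹)⁻¹ * (c * y * c⁻¹)) * ((c * y * c⁻¹)⁻¹ * (v * (c * y * c⁻¹) * v⁻¹)) by group]
      exact h4
    have hvv : v * v = 1 := Invol.mul_self_of_orderOf_two hv2
    let σ : Equiv.Perm S₁ :=
      { toFun := fun c => ⟨v * c.1 * v⁻¹, hvS c⟩
        invFun := fun c => ⟨v * c.1 * v⁻¹, hvS c⟩
        left_inv := fun c => Subtype.ext (by
          show v * (v * c.1 * v⁻¹) * v⁻¹ = c.1
          calc v * (v * c.1 * v⁻¹) * v⁻¹ = v * v * c.1 * (v * v)⁻¹ := by group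
            _ = c.1 := by rw [hvv]; simp)
        right_inv := fun c => Subtype.ext (by
          show v * (v * c.1 * v⁻¹) * v⁻¹ = c.1
          calc v * (v * c.1 * v⁻¹) * v⁻¹ = v * v * c.1 * (v * v)⁻¹ := by group
            _ = c.1 := by rw [hvv]; simp) }
    haveI : Fintype S₁ := Fintype.ofFinite _
    obtain ⟨⟨c, hcD, hc⟩, hfix⟩ := Equiv.Perm.exists_fixed_point_of_prime (p := 2) (n := 1) (σ := σ)
      (by rw [← Nat.card_eq_fintype_card]; exact fun h2 => Nat.not_even_iff_odd.2 hS₁ (even_iff_two_dvd.2 h2))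
      (Equiv.ext fun c => by
        rw [pow_one, pow_two, Equiv.Perm.mul_apply, Equiv.Perm.one_apply]
        exact σ.left_inv c)
    have hcv : v * c * v⁻¹ = c := congrArg Subtype.val hfix
    -- `c` fixes `p⁻¹` modulo `R`
    have hy : c * p⁻¹ * c⁻¹ * p ∈ R := by
      refine Subgroup.mem_inf.2 ⟨mul_mem (hDP c hcD _ (inv_mem hpPg)) hpPg,
        mem_sup_left (Subgroup.mem_inf.2 ⟨?_, ?_⟩)⟩
      · have e1 : c * p⁻¹ * c⁻¹ * p = c * r * c⁻¹ * r⁻¹ := by
          have hcv' : c * v * c⁻¹ = v := by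
            rw [mul_inv_eq_iff_eq_mul]
            exact (mul_inv_eq_iff_eq_mul.1 hcv).symm
          have hr : r = p⁻¹ * v := by rw [hvpr, inv_mul_cancel_left]
          calc c * p⁻¹ * c⁻¹ * p = c * p⁻¹ * c⁻¹ * v * v⁻¹ * p := by group
            _ = c * p⁻¹ * c⁻¹ * (c * v * c⁻¹) * v⁻¹ * p := by rw [hcv']
            _ = c * (p⁻¹ * v) * c⁻¹ * (p⁻¹ * v)⁻¹ := by group
            _ = _ := by rw [← hr]
        rw [e1]
        exact mul_mem (mem_Nq_conj hcD.1.2 hrQ) (inv_mem hrQ)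
      · exact mul_mem (hMn.conj_mem _ (inv_mem hpMN.1) c) hpMN.1
    have hfixd : (p⁻¹)⁻¹ * ((d : G) * p⁻¹ * (d : G)⁻¹) ∈ R := by
      have h1 : Same c (d : G) := by
        refine htrans (fun x hx => ?_) hdd₀
        have := inv_mem (hc x hx)
        simpa [mul_assoc] using this
      have h2 := h1 _ (inv_mem hpPg)
      have h3 : p * (c * p⁻¹ * c⁻¹) ∈ R := by
        rw [show p * (c * p⁻¹ * c⁻¹) = p * (c * p⁻¹ * c⁻¹ * p) * p⁻¹ by group]
        exact hRP p hpPg _ hy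
      rw [inv_inv, show p * ((d : G) * p⁻¹ * (d : G)⁻¹) =
        p * (c * p⁻¹ * c⁻¹) * ((c * p⁻¹ * c⁻¹)⁻¹ * ((d : G) * p⁻¹ * (d : G)⁻¹)) by group]
      exact mul_mem h3 h2
    obtain ⟨k, hk⟩ := T.isPGroup' ⟨p, hpT⟩
    have hpk : (p⁻¹) ^ 2 ^ k ∈ R := by
      rw [inv_pow, show p ^ 2 ^ k = 1 from congrArg Subtype.val hk, inv_one]
      exact one_mem _
    have hback : ∀ x, (e : G) * x * (e : G)⁻¹ ∈ R → x ∈ R := fun x hx => by
      have := hRn _ (inv_mem heN) (hnorm _ (inv_mem e.2) (inv_mem heN)) _ hx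
      simpa [mul_assoc] using this
    exact (inv_mem_iff.1 (mem_of_fixed hRP hback hdeR k p⁻¹ (inv_mem hpPg) hfixd hpk)).2

/-- S1911. -/
theorem s1911_of (hA : Criterion.{u}) {G : Type u} [Group G] [Finite G] (Q : Subgroup G)
    (hQ : Cfsg.IsTightlyEmbedded Q)
    (hodd : ∀ g : G, g ∉ Subgroup.normalizer (Q : Set G) →
      Odd (Nat.card ↥(Q.map (MulAut.conj g).toMonoidHom ⊓ Subgroup.normalizer (Q : Set G)))) :
    Q.Normal ∨ Cfsg.IsStronglyEmbedded
      ((Subgroup.normalizer (Q : Set G)).subgroupOf (Subgroup.normalClosure (Q : Set G))) := by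
  by_cases hn : Q.Normal
  · exact Or.inl hn
  refine Or.inr ?_
  have h := hyp_of_tight hQ hodd hn
  have hiso := h.isolated hA
  rw [← isolated_iff]
  set M := Subgroup.closure (invSet Q) with hM
  haveI hMn : M.Normal := closure_invSet_normal
  obtain ⟨z, hz, hz2⟩ := h.exists_invol
  -- `G = M N`
  have hMN : ∀ x : G, ∃ m ∈ M, ∃ n ∈ Nq Q, m * n = x := by
    intro x
    by_cases hx : x ∈ Nq Q
    · exact ⟨1, one_mem _, x, hx, one_mul x⟩
    obtain ⟨d, hd, hdz⟩ := h.conj_in_pair hz hz2 ((Invol.orderOf_conj_eq x z).trans hz2)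
      (show x⁻¹ * (x * z * x⁻¹) * x ∈ Q by simpa [mul_assoc] using hz) hx
    have hdM : d ∈ M := by
      refine (closure_le M).2 ?_ hd
      intro y hy
      rcases hy with rfl | rfl
      exacts [subset_closure (conj_mem_invSet (mem_invSet_of_mem hz hz2) x),
        subset_closure (mem_invSet_of_mem hz hz2)]
    refine ⟨d, hdM, d⁻¹ * x, h.moves z hz hz2 _ ?_, by group⟩
    have e : d⁻¹ * x * z * (d⁻¹ * x)⁻¹ = z := by
      calc d⁻¹ * x * z * (d⁻¹ * x)⁻¹ = d⁻¹ * (x * z * x⁻¹) * d := by group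
        _ = z := by rw [← hdz]; group
    rw [e]
    exact le_normalizer hz
  have hK : Subgroup.normalClosure (Q : Set G) ≤ M ⊔ Q := by
    haveI : (M ⊔ Q).Normal := by
      refine ⟨fun x hx c => ?_⟩
      obtain ⟨m, hm, q, hq, rfl⟩ := Subgroup.mem_sup_of_normal_left.1 hx
      obtain ⟨m', hm', n, hn, rfl⟩ := hMN c
      rw [← conj_mul]
      refine mul_mem (mem_sup_left (hMn.conj_mem m hm _)) ?_
      rw [show m' * n * q * (m' * n)⁻¹ = m' * (n * q * n⁻¹) * m'⁻¹ by group]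
      exact mul_mem (mul_mem (mem_sup_left hm') (mem_sup_right (mem_Nq_conj hn hq))) (mem_sup_left (inv_mem hm'))
    exact normalClosure_le_normal (SetLike.coe_subset_coe.2 le_sup_right)
  have hMK : M ≤ Subgroup.normalClosure (Q : Set G) := by
    rw [hM, closure_le]
    rintro x ⟨-, g, hg⟩
    have := (Subgroup.normalClosure_normal (s := (Q : Set G))).conj_mem _ (subset_normalClosure hg) g
    simpa [mul_assoc] using this
  refine ⟨fun hle => hiso.1 (hMK.trans hle), ⟨z, subset_normalClosure hz, le_normalizer hz, hz2⟩,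
    fun v hvK hvN hv2 x hxK hvx => by_contra fun hxN => ?_⟩
  obtain ⟨m, hm, n, hn, hmn⟩ := hMN x⁻¹
  have hmN : m ∉ Nq Q := fun hmN => hxN (inv_mem_iff.1 (hmn ▸ mul_mem hmN hn))
  refine h.no_two_point hiso hv2 (hK hvK) hvN hm hmN ?_
  have e : m⁻¹ * v * m = n * (x * v * x⁻¹) * n⁻¹ := by
    have hx : x = n⁻¹ * m⁻¹ := by rw [← mul_inv_rev, hmn, inv_inv]
    rw [hx]; group
  rw [e]
  exact mul_mem (mul_mem hn hvx) (inv_mem hn)

end Cfsg.Agent.Fus.Tight
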