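import Mathlib
import Cfsg.Agent.Lib.Fus.TightCriterion.Main
import Cfsg.Agent.Lib.Grp.Components
import Cfsg.Agent.S0205

/-!
# S3121 from the criterion
-/

set_option autoImplicit false

namespace Cfsg.Agent.Fus.Tight

open Subgroup

universe u

theorem s3121_of (hA : Criterion.{u}) {G : Type u} [Group G] [Finite G]
    (hF : IsSimpleGroup ↥(Cfsg.generalizedFittingSubgroup G))
    (hF' : ¬ IsMulCommutative ↥(Cfsg.generalizedFittingSubgroup G)) (H : Subgroup G)
    (hH : Cfsg.IsTightlyEmbedded H)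
    (hodd : ∀ g : G, g ∉ Subgroup.normalizer (H : Set G) →
      Odd (Nat.card ↥(H.map (MulAut.conj g).toMonoidHom ⊓ Subgroup.normalizer (H : Set G)))) :
    H.Normal ∨ ∃ M : Subgroup ↥(Cfsg.generalizedFittingSubgroup G), Cfsg.IsStronglyEmbedded M := by
  haveI : Fact (Nat.Prime 2) := ⟨Nat.prime_two⟩
  by_cases hn : H.Normal
  · exact Or.inl hn
  refine Or.inr ?_
  have h := hyp_of_tight hH hodd hn
  have hiso := h.isolated hA
  obtain ⟨F, hFdef⟩ : ∃ F, F = Cfsg.generalizedFittingSubgroup G := ⟨_, rfl⟩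
  have hcent := Grp.centralizer_gfitting_le (G := G)
  rw [← hFdef] at hF hF' hcent ⊢
  haveI hFn : F.Normal := by
    rw [hFdef, Cfsg.generalizedFittingSubgroup]; infer_instance
  set M := Subgroup.closure (invSet H) with hM
  haveI hMn : M.Normal := closure_invSet_normal
  have hMne : M ≠ ⊥ := fun e => hiso.1 (e ▸ bot_le)
  -- `F ≤ M`
  haveI : (M.subgroupOf F).Normal := inferInstance
  have hFM : F ≤ M := by
    rcases hF.eq_bot_or_eq_top_of_normal (M.subgroupOf F) inferInstance with e | e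
    · exfalso
      have hMc : M ≤ Subgroup.centralizer (F : Set G) := fun m hm => mem_centralizer_iff.2 fun f hf => by
        have h1 : f * m * f⁻¹ * m⁻¹ ∈ (M.subgroupOf F).map F.subtype := by
          have h2 : f * m * f⁻¹ * m⁻¹ ∈ F := by
            rw [show f * m * f⁻¹ * m⁻¹ = f * (m * f⁻¹ * m⁻¹) by group]
            exact mul_mem hf (hFn.conj_mem _ (inv_mem hf) m)
          exact ⟨⟨_, h2⟩, mul_mem (hMn.conj_mem m hm f) (inv_mem hm), rfl⟩
        rw [e, Subgroup.map_bot, mem_bot] at h1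
        exact mul_inv_eq_iff_eq_mul.1 (mul_inv_eq_one.1 h1)
      refine hMne ?_
      have hMF : M ≤ F := hMc.trans hcent
      exact (Subgroup.eq_bot_iff_forall _).2 fun m hm => by
        have h1 : (⟨m, hMF hm⟩ : F) ∈ M.subgroupOf F := hm
        rw [e, mem_bot] at h1
        exact congrArg Subtype.val h1
    · exact subgroupOf_eq_top.1 e
  -- `|F|` is even
  have hev : Even (Nat.card F) := by
    by_contra hodd'
    have hsol := Cfsg.Agent.S0205.result (Nat.not_even_iff_odd.1 hodd')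
    exact hF' ⟨⟨IsSimpleGroup.comm_iff_isSolvable.2 hsol⟩⟩
  obtain ⟨P, z, hPN, hzQ, hz2, hzP, hzc⟩ := h.exists_central
  obtain ⟨y, hy, hy2⟩ : ∃ y : G, y ∈ F ∧ y ∈ Nq H ∧ orderOf y = 2 := by
    obtain ⟨t, htF, ht⟩ := Invol.exists_orderOf_two_mem hev
    obtain ⟨g, hg⟩ := Invol.exists_conj_mem_sylow (p := 2) (n := 1) (x := t) (by rw [ht, pow_one]) P
    exact ⟨g * t * g⁻¹, hFn.conj_mem t htF g, hPN hg, (Invol.orderOf_conj_eq g t).trans ht⟩
  have hFN : ¬ F ≤ Nq H := fun hle => by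
    obtain ⟨g, hgM, hgN⟩ := SetLike.not_le_iff_exists.1 hiso.1
    -- `y` lies in every conjugate of `N(H)`
    refine hgN (hiso.2.2 y (hFM hy) hy2.1 hy2.2 g hgM (hle ?_))
    exact hFn.conj_mem y hy g
  exact ⟨_, isolated_iff.1 (hiso.mono hFM hFN hy hy2.1 hy2.2)⟩

end Cfsg.Agent.Fus.Tight
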